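import Cfsg.Agent.Mrg.Omega.IId.SymWrD.Hw.Fw

section


/-!
# THEOREM SYL^ (bb OMEGA #21666, helper916), steps (4) - (7) (helper48)

`Fw.syl_end` : there is no `1 ≠ κ ∈ Ω₁Z(T) ∩ C(X)` and `g ∈ C(κ)` with `n^g = n κ`, `r₂^g = r₂ κ`.
-/

set_option autoImplicit false
set_option linter.unusedSectionVars false

namespace Cfsg.Agent.Omega.IId.SymWrD.Hw

open Subgroup Cfsg Cfsg.Agent.Omega.MinPar Cfsg.Agent.Omega.FFThm
open Cfsg.Agent.ZN (o2 zc)
open Cfsg.Agent.Omega.Half.SymA (Pt E Mv pm)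
open Cfsg.Agent.Omega.HT.LineOf (Ln ln pts dd)
open Cfsg.Agent.Omega.IId.Triangle (KK mem_KK KK_conj KK_le_o2)
open Cfsg.Agent.MinSimple.VModule (le_normalizer_o2 o2_isPGroup o2_le mem_zc zc_le normalizer_le_normalizer_zc)
open Cfsg.Agent.MinSimple.Geo (mem_o2_of_stab)
open Ht (DD mem_DD Fr Tri tn)

universe u

variable {G : Type u} [Group G] {k m : ℕ}

namespace Fw

variable {S : Sylow 2 G} {P V D : Subgroup G} {M : SymK (S : Subgroup G) P V ⊥ k m} (h : Fw S P V D M)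
  {μ ν : Equiv.Perm (Pt k m)} (F : Fours M μ ν) {x : Pt k m} (hx : x.2 ≠ 0)
include h F hx

/-- `O₂(C_G(n)) ≤ T` -/
theorem Qn_le [Finite G] {T : Subgroup G} (hTT : tn S M μ x ≤ T) (hTp : IsPGroup 2 T)
    (hmax : ∀ R : Subgroup G, IsPGroup 2 R → T ≤ R → R ≤ normalizer (ln (h.line3 (h.tri F hx)) : Set G) → R ≤ T)
    (hTN : T ≤ normalizer (ln (h.line3 (h.tri F hx)) : Set G)) : o2 (centralizer ({pr M x (μ x)} : Set G)) ≤ T := by
  have t := h.tri F hx
  have hTa := h.T_le_cen F hx hTT hTp hTN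
  have hQN : o2 (centralizer ({pr M x (μ x)} : Set G)) ≤ normalizer (ln (h.line3 (h.tri F hx)) : Set G) := by
    intro g hg
    refine BTwo.mem_normalizer_of_conj fun v hv => ?_
    rcases h.comm_mem t.pq t.n1 hg (h.ln_le t hv) with e | e
    · rw [e]; exact hv
    · rw [e]; exact mul_mem hv ((h.line3 t).dd_mem 0)
  have h1 : IsPGroup 2 (T ⊔ o2 (centralizer ({pr M x (μ x)} : Set G)) : Subgroup G) :=
    IsPGroup.to_sup_of_normal_right' hTp (o2_isPGroup _) (hTa.trans (le_normalizer_o2 _))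
  exact le_sup_right.trans (hmax _ h1 le_sup_left (sup_le hTN hQN))

/-- **SYL^, steps (4) - (7)** -/
theorem syl_end [Finite G] (zv : zc (o2 P) ≤ V ⊔ DD M) {T : Subgroup G} (hTT : tn S M μ x ≤ T) (hTp : IsPGroup 2 T)
    (hmax : ∀ R : Subgroup G, IsPGroup 2 R → T ≤ R → R ≤ normalizer (ln (h.line3 (h.tri F hx)) : Set G) → R ≤ T)
    (hTN : T ≤ normalizer (ln (h.line3 (h.tri F hx)) : Set G)) {κ g : G} (hk : κ ∈ zc T) (hk1 : κ ≠ 1)
    (hkX : ∀ y ∈ h.XK (h.tri F hx), y * κ = κ * y) (hgk : g * κ = κ * g)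
    (hga : g * pr M x (μ x) * g⁻¹ = pr M x (μ x) * κ) (hgb : g * pr M x (x.1, 0) * g⁻¹ = pr M x (x.1, 0) * κ) :
    False := by
  classical
  have t := h.tri F hx
  have hTa := h.T_le_cen F hx hTT hTp hTN
  have hQT := h.Qn_le F hx hTT hTp hmax hTN
  have hkT := (mem_zc.1 hk).2.1
  have hk2 : κ * κ = 1 := by rw [← pow_two]; exact (mem_zc.1 hk).2.2
  have hkt := h.zcT_le F hx hTT hTp hTN hk
  have hn1 := h.pr_ne t.pq t.n1
  obtain ⟨n, hn⟩ : ∃ n, n = pr M x (μ x) := ⟨_, rfl⟩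
  obtain ⟨r, hr⟩ : ∃ r, r = pr M x (x.1, 0) := ⟨_, rfl⟩
  have hnn : n * n = 1 := by rw [hn]; exact h.pr_sq
  have hrr : r * r = 1 := by rw [hr]; exact h.pr_sq
  have hnV : n ∈ V := by rw [hn]; exact pr_mem M _ _
  have hrV : r ∈ V := by rw [hr]; exact pr_mem M _ _
  have hVT : V ≤ T := (h.V_le_tn F hx).trans hTT
  have hnk : n * κ = κ * n := hkT n (hVT hnV)
  have hrk : r * κ = κ * r := hkT r (hVT hrV)
  -- `κ ∈ Ω₁Z(Q_n)`
  have hkQ : κ ∈ zc (o2 (centralizer ({pr M x (μ x)} : Set G))) := by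
    refine mem_zc.2 ⟨?_, fun q hq => hkT q (hQT hq), (mem_zc.1 hk).2.2⟩
    refine mem_o2_of_stab h.char2 h.pr_sq hn1 (hTa (zc_le _ hk)) fun q hq => ?_
    have e : κ * q * κ⁻¹ * q⁻¹ = 1 := by rw [← hkT q (hQT hq)]; group
    rw [e]; exact one_mem _
  obtain ⟨p, hp⟩ : ∃ p, p = n * κ := ⟨_, rfl⟩
  have hga' : g * n * g⁻¹ = p := by rw [hn, hga, hp, hn]
  have hgb' : g * r * g⁻¹ = r * κ := by rw [hr, hgb]
  have hcen : o2 (centralizer ({p} : Set G)) =
      (o2 (centralizer ({pr M x (μ x)} : Set G))).map (MulAut.conj g).toMonoidHom := by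
    rw [← hga', hn]; exact Triangle.o2_cent_conj g _
  have hmem : ∀ {a : G}, a ∈ o2 (centralizer ({pr M x (μ x)} : Set G)) → g * a * g⁻¹ ∈ o2 (centralizer ({p} : Set G)) := by
    intro a ha
    rw [hcen]; exact ⟨a, ha, rfl⟩
  have hmem' : ∀ {a : G}, a ∈ zc (o2 (centralizer ({pr M x (μ x)} : Set G))) →
      g * a * g⁻¹ ∈ zc (o2 (centralizer ({p} : Set G))) := by
    intro a ha
    have h1 := mem_zc.1 ha
    refine mem_zc.2 ⟨hmem h1.1, fun q hq => ?_, ?_⟩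
    · rw [hcen] at hq
      obtain ⟨b, hb, rfl⟩ := hq
      have h2 := h1.2.1 b hb
      show g * b * g⁻¹ * (g * a * g⁻¹) = g * a * g⁻¹ * (g * b * g⁻¹)
      calc g * b * g⁻¹ * (g * a * g⁻¹) = g * (b * a) * g⁻¹ := by group
        _ = g * a * g⁻¹ * (g * b * g⁻¹) := by rw [h2]; group
    · have h2 := h1.2.2
      rw [pow_two] at h2 ⊢
      calc g * a * g⁻¹ * (g * a * g⁻¹) = g * (a * a) * g⁻¹ := by group
        _ = 1 := by rw [h2]; group
  have hkQp : κ ∈ zc (o2 (centralizer ({p} : Set G))) := by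
    have h1 := hmem' hkQ
    rwa [hgk, mul_inv_cancel_right] at h1
  have hnQ : n ∈ zc (o2 (centralizer ({pr M x (μ x)} : Set G))) := by
    refine mem_zc.2 ⟨by rw [hn]; exact h.V_le t.pq t.n1 (pr_mem M _ _), fun q hq => ?_, by rw [pow_two]; exact hnn⟩
    rw [hn]; exact mem_centralizer_singleton_iff.1 (o2_le _ hq)
  have hpQp : p ∈ zc (o2 (centralizer ({p} : Set G))) := by
    have h1 := hmem' hnQ
    rwa [hga'] at h1
  have hnQp : n ∈ zc (o2 (centralizer ({p} : Set G))) := by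
    have e : n = p * κ := by rw [hp, mul_assoc, hk2, mul_one]
    rw [e]; exact mul_mem hpQp hkQp
  have hrQp : r ∈ o2 (centralizer ({p} : Set G)) := by
    have e : r = g * r * g⁻¹ * κ := by rw [hgb', mul_assoc, hk2, mul_one]
    have h1 : g * r * g⁻¹ ∈ o2 (centralizer ({p} : Set G)) := by
      refine hmem ?_
      rw [hr]; exact h.V_le t.pq t.n1 (pr_mem M _ _)
    rw [e]; exact mul_mem h1 (zc_le _ hkQp)
  -- **(4)**
  obtain ⟨N, hN⟩ : ∃ N : Subgroup G, N = closure {a | ∃ c ∈ centralizer ({p} : Set G), a = c * n * c⁻¹} := ⟨_, rfl⟩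
  have hnN : n ∈ N := by
    rw [hN]; exact subset_closure ⟨1, one_mem _, by group⟩
  have hCN : centralizer ({p} : Set G) ≤ normalizer (N : Set G) := by
    intro s hs
    refine BTwo.mem_normalizer_of_conj fun a ha => ?_
    have hle : N ≤ N.comap (MulAut.conj s).toMonoidHom := by
      nth_rw 1 [hN]
      rw [closure_le]
      rintro _ ⟨c, hc, rfl⟩
      show s * (c * n * c⁻¹) * s⁻¹ ∈ N
      rw [hN]
      exact subset_closure ⟨s * c, mul_mem hs hc, by group⟩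
    exact hle ha
  have hNZ : N ≤ zc (o2 (centralizer ({p} : Set G))) := by
    rw [hN, closure_le]
    rintro _ ⟨c, hc, rfl⟩
    exact (mem_normalizer_iff.1 (((le_normalizer_o2 _).trans (normalizer_le_normalizer_zc _)) hc) n).1 hnQp
  have hNab : ∀ a ∈ N, ∀ b ∈ N, a * b = b * a := fun a ha b hb =>
    (mem_zc.1 (hNZ hb)).2.1 a (zc_le _ (hNZ ha))
  have hTp' : T ≤ centralizer ({p} : Set G) := by
    intro s hs
    rw [mem_centralizer_singleton_iff, hp, ← mul_assoc]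
    have h1 : s * n = n * s := by rw [hn]; exact mem_centralizer_singleton_iff.1 (hTa hs)
    rw [h1, mul_assoc, hkT s hs, mul_assoc]
  have hNr : ∀ y ∈ N, y * r = r * y := fun y hy => ((mem_zc.1 (hNZ hy)).2.1 r hrQp).symm
  have hNn : ∀ y ∈ N, y * n = n * y := fun y hy => hNab y hy n hnN
  have hNL : N ≤ normalizer (ln (h.line3 t) : Set G) := by
    intro y hy
    have h1 := hNr y hy
    have h2 := hNn y hy
    refine BTwo.mem_normalizer_of_conj fun v hv => ?_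
    have hc : y * v = v * y := by
      rcases hv with e | ⟨i, e⟩
      · rw [e, mul_one, one_mul]
      · fin_cases i
        · have e' : v = n := by rw [hn]; exact e
          rw [e']; exact h2
        · have e' : v = r := by rw [hr]; exact e
          rw [e']; exact h1
        · have e' : v = n * r := by rw [hn, hr]; exact e
          rw [e', ← mul_assoc, h2, mul_assoc, h1, mul_assoc]
    rw [hc, mul_inv_cancel_right]; exact hv
  have hNT : N ≤ T := by
    have h1 : IsPGroup 2 (T ⊔ N : Subgroup G) :=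
      IsPGroup.to_sup_of_normal_right' hTp ((o2_isPGroup _).to_le (hNZ.trans (zc_le _))) (hTp'.trans hCN)
    exact le_sup_right.trans (hmax _ h1 le_sup_left (sup_le hTN hNL))
  -- the components of `κ`
  obtain ⟨v₀, hv₀, d₀, hd₀, hvT, hdT, e0⟩ := h.zc_tn_dec F hx zv hkt
  have h00 : E M v₀ x = 0 := by
    obtain ⟨w, hw, hwp⟩ := h.par t.pr t.n2
    have hwQ := h.KK_le t.pr t.n2 hw
    have hwP := h.Qle t.pr t.n2 hwQ
    have hwX : w ∈ h.XK t := le_iSup (fun i => KK (dd (pr M x (μ x)) (pr M x (x.1, 0)) i)) 1 hw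
    have h1 := hkX w hwX
    have h2 : w * d₀ = d₀ * w := (mem_DD.1 hd₀).2 w hwP fun q => by rw [hwp]; exact swap_fst_eq t.pr q
    have h3 : w * v₀ = v₀ * w := by
      rw [e0] at h1
      have h4 : w * v₀ * d₀ = v₀ * w * d₀ := by
        calc w * v₀ * d₀ = w * (v₀ * d₀) := by group
          _ = v₀ * (d₀ * w) := by rw [h1]; group
          _ = v₀ * w * d₀ := by rw [← h2]; group
      exact mul_right_cancel h4
    have h4 := (h.comm_iff hwP hv₀).1 h3 x
    rw [hwp, Equiv.swap_apply_left, h.fix_zero F hx hv₀ hvT x.1] at h4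
    exact h4.symm
  -- **(5)**
  have h5 : ∀ y ∈ N, y ∈ tn S M μ x → pp M y = 1 ∨ pp M y = Equiv.swap x (μ x) := by
    intro y hy hyt
    refine h.syl_five F hx hv₀ hd₀ hvT hdT h00 hNab (fun s hs a ha => ?_) hy hyt
    rw [← e0, ← hn, ← hp] at hs
    exact (mem_normalizer_iff.1 (hCN (mem_centralizer_singleton_iff.2 hs)) a).1 ha
  -- **(6)**
  have h6 : N ≤ tn S M μ x := h.syl_six F hx zv hTT hTp hTa hNT (hTT.trans (hTp'.trans hCN))
    (fun y hy => by rw [← hr]; exact hNr y hy) h5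
  -- **(7)**
  have hp' : pr M x (μ x) * κ = p := by rw [hp, hn]
  refine h.syl_seven F hx zv hkt hk1 hkX hkQ hgk hga hgb (N := N) (by rw [← hn]; exact hnN) ?_ ?_ ?_
  · rw [hp']; exact hNZ.trans ((zc_le _).trans (o2_le _))
  · rw [hp']; exact hCN
  · intro v hv hE d hd y hy
    exact h.comm_perp' F hx (h.SP (h6 hy).1) (h5 y hy (h6 hy)) hv hE hd

end Fw

end Cfsg.Agent.Omega.IId.SymWrD.Hw

end

section


/-!
# THEOREM SYL^ (bb OMEGA #21666, helper916; refereed #21848)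

`h : Fw S P V D M` (no partner), `4 ≤ |Ω₁Z(S)|`, `L_0 = {1, n, 10, 20}`, `n = x μ(x)`, `T = C_S(n)`.
* `Fw.syl_hat` : a Sylow 2-subgroup `T^ ≥ T` of `N_G(L_0)` lies in `C_G(n)` and has odd index there;
* `Fw.exists_hat` : `T^` exists.
-/

set_option autoImplicit false
set_option linter.unusedSectionVars false

namespace Cfsg.Agent.Omega.IId.SymWrD.Hw

open Subgroup Cfsg Cfsg.Agent.Omega.MinPar Cfsg.Agent.Omega.FFThm
open Cfsg.Agent.ZN (o2 zc)
open Cfsg.Agent.Omega.Half.SymA (Pt E Mv pm)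
open Cfsg.Agent.Omega.HT.LineOf (Ln ln pts dd)
open Cfsg.Agent.Omega.IId.Triangle (KK mem_KK KK_conj)
open Ht (DD mem_DD Fr Tri tn)

universe u

variable {G : Type u} [Group G] [Finite G] {k m : ℕ}

namespace Fw

variable {S : Sylow 2 G} {P V D : Subgroup G} {M : SymK (S : Subgroup G) P V ⊥ k m} (h : Fw S P V D M)
  {μ ν : Equiv.Perm (Pt k m)} (F : Fours M μ ν) {x : Pt k m} (hx : x.2 ≠ 0)
  (zv : zc (o2 P) ≤ V ⊔ DD M)
include h F hx zv

/-- **THEOREM SYL^** -/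
theorem syl_hat (h4 : 4 ≤ Nat.card (zc (S : Subgroup G))) {T : Subgroup G} (hTT : tn S M μ x ≤ T)
    (hTp : IsPGroup 2 T) (hTN : T ≤ normalizer (ln (h.line3 (h.tri F hx)) : Set G))
    (hodd : ¬ 2 ∣ T.relIndex (normalizer (ln (h.line3 (h.tri F hx)) : Set G))) :
    T ≤ centralizer ({pr M x (μ x)} : Set G) ∧ ¬ 2 ∣ T.relIndex (centralizer ({pr M x (μ x)} : Set G)) := by
  refine ⟨h.T_le_cen F hx hTT hTp hTN, fun hneg => ?_⟩
  obtain ⟨k, hk, hk1, hkX, g, hgk, hga, hgb⟩ := h.exists_k F hx zv hTT hTp hTN h4 hodd hneg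
  have C := h.cf F hx zv hTT hTp hTN hodd
  exact h.syl_end F hx zv hTT hTp (fun R hR hTR hRN => C.max hR hTR hRN) hTN hk hk1 hkX hgk hga hgb

/-- `T^` exists. -/
theorem exists_hat (h4 : 4 ≤ Nat.card (zc (S : Subgroup G))) : ∃ T : Subgroup G, tn S M μ x ≤ T ∧ IsPGroup 2 T ∧
    T ≤ normalizer (ln (h.line3 (h.tri F hx)) : Set G) ∧ T ≤ centralizer ({pr M x (μ x)} : Set G) ∧
    ¬ 2 ∣ T.relIndex (centralizer ({pr M x (μ x)} : Set G)) ∧
    ∀ t ∈ T, t * pr M x (x.1, 0) * t⁻¹ = pr M x (x.1, 0) ∨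
      t * pr M x (x.1, 0) * t⁻¹ = pr M x (x.1, 0) * pr M x (μ x) := by
  obtain ⟨T, hTT, hTN, hTp, hodd⟩ := HT.exists_syl (S := tn S M μ x)
    (P := normalizer (ln (h.line3 (h.tri F hx)) : Set G)) (S.isPGroup'.to_le inf_le_left) (h.tn_norm F hx)
  obtain ⟨h1, h2⟩ := h.syl_hat F hx zv h4 hTT hTp hTN hodd
  refine ⟨T, hTT, hTp, hTN, h1, h2, fun t ht => ?_⟩
  have C := h.cf F hx zv hTT hTp hTN hodd
  rcases C.act_T ht with e | e
  · exact Or.inl e
  · right; rw [e]; exact (h.line3 (h.tri F hx)).comm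

end Fw

end Cfsg.Agent.Omega.IId.SymWrD.Hw

end
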