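import Cfsg.Agent.Mrg.Omega.IId.SymWrD.Ht.LemJ
import Cfsg.Agent.Mrg.Omega.IId.SymWrD.SylN.Base
import Cfsg.Agent.Mrg.Omega.HT.Main
import Cfsg.Agent.MinSimple.Choice97
import Cfsg.Agent.Mrg.Omega.CloseA.Weak

section


/-!
# II.d, `SwCv`, `D` arbitrary: the partner-free frame for THEOREM SYL^ (bb OMEGA #21666, helper916)

`Fw S P V D M` : `SitD` + characteristic 2 type + (H1) `O₂(C_G(n)) ≤ P` acts inside `⟨(p q)⟩` for all duads
`n = pr M p q` + `par` : some `w ∈ K_n` acts as `(p q)`.  `Fw.of_fr` : from `Ht.Fr`; `Fw.of_sd` : from `SD`.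
The lemmas of `Ht/{Fr,Line,LemC}.lean` which do not use the partner, with `X = XK = ⟨K_r : r ∈ V_l#⟩`.
-/

set_option autoImplicit false
set_option linter.unusedSectionVars false

namespace Cfsg.Agent.Omega.IId.SymWrD.Hw

open Subgroup Cfsg Cfsg.Agent.Omega.MinPar Cfsg.Agent.Omega.FFThm
open Cfsg.Agent.ZN (o2 zc)
open Cfsg.Agent.ZN.ChoiceBase (cj mem_cj)
open Cfsg.Agent.Omega.Half (Amb amb_of_loc)
open Cfsg.Agent.Omega.Half.SymA (Pt E Mv pm)
open Cfsg.Agent.Omega.HT.LineOf (Ln ln pts dd)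
open Cfsg.Agent.Omega.IId.Triangle (KK mem_KK KK_conj KK_le_o2)
open Cfsg.Agent.MinSimple.VModule (le_normalizer_o2 o2_isPGroup o2_le mem_zc zc_le normalizer_le_normalizer_zc)
open Cfsg.Agent.MinSimple.Geo (mem_o2_of_stab)
open Ht (DD mem_DD Fr Tri tn)

universe u

variable {G : Type u} [Group G] {k m : ℕ}

/-- The frame. -/
structure Fw (S : Sylow 2 G) (P V D : Subgroup G) (M : SymK (S : Subgroup G) P V ⊥ k m) : Prop
    extends SitD S P V D M where
  char2 : IsCharacteristicTwoType G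
  Qle : ∀ {p q : Pt k m}, p.1 = q.1 → p ≠ q → o2 (centralizer ({pr M p q} : Set G)) ≤ P
  Qpp : ∀ {p q : Pt k m}, p.1 = q.1 → p ≠ q → ∀ {g : G}, g ∈ o2 (centralizer ({pr M p q} : Set G)) →
    pp M g = 1 ∨ pp M g = Equiv.swap p q
  par : ∀ {p q : Pt k m}, p.1 = q.1 → p ≠ q → ∃ w ∈ KK (pr M p q), pp M w = Equiv.swap p q

/-- the frame of the T-T case -/
theorem Fw.of_fr [Finite G] {S : Sylow 2 G} {P V D : Subgroup G} {M : SymK (S : Subgroup G) P V ⊥ k m}
    (h : Fr S P V D M) : Fw S P V D M where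
  toSitD := h.toSitD
  char2 := h.char2
  Qle := h.Qle
  Qpp := h.Qpp
  par := fun hpq hne => by
    obtain ⟨w, hw, -, e⟩ := h.exists_w hpq hne
    exact ⟨w, hw, e⟩

/-- 666's frame -/
theorem Fw.of_sd [Finite G] {S : Sylow 2 G} {P V D : Subgroup G} {M : SymK (S : Subgroup G) P V ⊥ k m}
    (h0 : SitD S P V D M) (h : SD S P V M) : Fw S P V D M where
  toSitD := h0
  char2 := h.c2
  Qle := fun h1 h2 => h.QP _ _ h1 h2
  Qpp := fun h1 h2 _ hg => h.Qpp _ _ h1 h2 _ hg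
  par := fun h1 h2 => h.par _ _ h1 h2

namespace Fw

variable {S : Sylow 2 G} {P V D : Subgroup G} {M : SymK (S : Subgroup G) P V ⊥ k m} (h : Fw S P V D M)
  {p q : Pt k m}
include h

theorem pr_sq : pr M p q * pr M p q = 1 := h.Vsq (pr_mem M p q)

theorem pr_ne (hpq : p.1 = q.1) (hne : p ≠ q) : pr M p q ≠ 1 := fun e => by
  have h1 := E_pr_left M hpq hne
  rw [e, Half.SymA.E_one M] at h1
  exact zero_ne_one h1

/-- an element acting trivially or as `(p q)` commutes with the perp of the duad -/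
theorem comm_perp_of {g : G} (hgP : g ∈ P) (hg : pp M g = 1 ∨ pp M g = Equiv.swap p q) {v : G} (hv : v ∈ V)
    (hE : E M v p = E M v q) : g * v = v * g := by
  rw [h.comm_iff hgP hv]
  intro r
  rcases hg with e | e
  · rw [e]; rfl
  · rw [e]
    by_cases e1 : r = p
    · rw [e1, Equiv.swap_apply_left, hE]
    by_cases e2 : r = q
    · rw [e2, Equiv.swap_apply_right, hE]
    · rw [Equiv.swap_apply_of_ne_of_ne e1 e2]

theorem perp_comm (hpq : p.1 = q.1) (hne : p ≠ q) {g : G} (hg : g ∈ o2 (centralizer ({pr M p q} : Set G))) {v : G}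
    (hv : v ∈ V) (hE : E M v p = E M v q) : g * v = v * g :=
  h.comm_perp_of (h.Qle hpq hne hg) (h.Qpp hpq hne hg) hv hE

/-- the action of an element inducing `(p q)` -/
theorem conj_swap {g : G} (hgP : g ∈ P) (hpq : p.1 = q.1) (hg : pp M g = Equiv.swap p q) {v : G} (hv : v ∈ V)
    (hE : E M v p ≠ E M v q) : g * v * g⁻¹ = v * pr M p q := by
  refine Half.SymA.inj M (h.amb.conj_mem hgP hv) (mul_mem hv (pr_mem M _ _)) fun r => ?_
  have hne : p ≠ q := fun e => hE (by rw [e])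
  rw [E_conj' hgP hv, Half.SymA.E_mul M hv (pr_mem M _ _), E_pr M hpq, hg, Equiv.swap_inv]
  have key : ∀ x y : ZMod 2, x ≠ y → y = x + 1 := by decide
  by_cases e1 : r = p
  · rw [e1, Equiv.swap_apply_left, if_pos rfl, if_neg hne, add_zero]
    exact key _ _ hE
  by_cases e2 : r = q
  · rw [e2, Equiv.swap_apply_right, if_pos rfl, if_neg hne.symm, zero_add]
    exact key _ _ hE.symm
  · rw [Equiv.swap_apply_of_ne_of_ne e1 e2, if_neg e1, if_neg e2, add_zero, add_zero]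

/-- `[O₂(C_G(n)), V] ≤ ⟨n⟩` -/
theorem comm_mem (hpq : p.1 = q.1) (hne : p ≠ q) {g : G} (hg : g ∈ o2 (centralizer ({pr M p q} : Set G))) {v : G}
    (hv : v ∈ V) : g * v * g⁻¹ = v ∨ g * v * g⁻¹ = v * pr M p q := by
  by_cases hE : E M v p = E M v q
  · left; rw [h.perp_comm hpq hne hg hv hE]; group
  · rcases h.Qpp hpq hne hg with e | e
    · left
      rw [h.comm_perp_of (p := p) (q := p) (h.Qle hpq hne hg) (Or.inl e) hv rfl]; group
    · right; exact h.conj_swap (h.Qle hpq hne hg) hpq e hv hE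

/-- `V ≤ K_n` -/
theorem V_le_KK (hpq : p.1 = q.1) (hne : p ≠ q) : V ≤ KK (pr M p q) := by
  intro v hv
  refine mem_KK.2 ⟨h.Vcomm hv (pr_mem M p q), fun g hg => ?_⟩
  have hvi : ∀ {x : G}, x ∈ V → x⁻¹ = x := fun hx => inv_eq_of_mul_eq_one_left (h.Vsq hx)
  have e : v * g * v⁻¹ * g⁻¹ = v * (g * v * g⁻¹)⁻¹ := by group
  rw [e]
  rcases h.comm_mem hpq hne hg hv with e1 | e1
  · rw [e1, mul_inv_cancel]; exact one_mem _
  · have e2 : v * (v * pr M p q)⁻¹ = (pr M p q)⁻¹ := by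
      rw [h.Vcomm hv (pr_mem M p q)]; group
    rw [e1, e2]; exact inv_mem (mem_zpowers _)

section fin

variable [Finite G]

theorem KK_le (hpq : p.1 = q.1) (hne : p ≠ q) : KK (pr M p q) ≤ o2 (centralizer ({pr M p q} : Set G)) := by
  intro g hg
  have h1 := mem_KK.1 hg
  exact mem_o2_of_stab h.char2 h.pr_sq (h.pr_ne hpq hne) (mem_centralizer_singleton_iff.2 h1.1) h1.2

/-- `V ≤ O₂(C_G(n))` -/
theorem V_le (hpq : p.1 = q.1) (hne : p ≠ q) : V ≤ o2 (centralizer ({pr M p q} : Set G)) :=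
  (h.V_le_KK hpq hne).trans (h.KK_le hpq hne)

/-- the elements of `V` commuting with `(p q)` lie in `Ω₁Z(O₂(C_G(n)))` -/
theorem perp (hpq : p.1 = q.1) (hne : p ≠ q) {v : G} (hv : v ∈ V) (hE : E M v p = E M v q) :
    v ∈ zc (o2 (centralizer ({pr M p q} : Set G))) :=
  mem_zc.2 ⟨h.V_le hpq hne hv, fun g hg => h.perp_comm hpq hne hg hv hE, by rw [pow_two]; exact h.Vsq hv⟩

end fin

end Fw

namespace Fw

variable {S : Sylow 2 G} {P V D : Subgroup G} {M : SymK (S : Subgroup G) P V ⊥ k m} (h : Fw S P V D M)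
  {p q r : Pt k m}
include h

/-- the line of three points -/
theorem line3 (t : Tri p q r) : Ln (pr M p q) (pr M p r) where
  aa := h.pr_sq
  bb := h.pr_sq
  comm := h.Vcomm (pr_mem M _ _) (pr_mem M _ _)
  a1 := h.pr_ne t.pq t.n1
  b1 := h.pr_ne t.pr t.n2
  ne := fun e => by
    have h1 : E M (pr M p q) q = 1 := E_pr_right M t.pq t.n1
    rw [e, E_pr_of_ne M t.pr t.n1.symm t.n3] at h1
    exact zero_ne_one h1

theorem dd_two (t : Tri p q r) : pr M p q * pr M p r = pr M q r := by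
  rw [pr_comm M t.pq, pr_mul M t.pq.symm t.pr]

/-- the three points -/
theorem dd_cases (t : Tri p q r) (i : Fin 3) : ∃ a b c : Pt k m, a.1 = b.1 ∧ a.1 = c.1 ∧ a ≠ b ∧ a ≠ c ∧ b ≠ c ∧
    dd (pr M p q) (pr M p r) i = pr M a b ∧ (∃ j, dd (pr M p q) (pr M p r) j = pr M a c) ∧
    (a = p ∨ a = q ∨ a = r) ∧ (b = p ∨ b = q ∨ b = r) := by
  fin_cases i
  · exact ⟨p, q, r, t.pq, t.pr, t.n1, t.n2, t.n3, rfl, ⟨1, rfl⟩, Or.inl rfl, Or.inr (Or.inl rfl)⟩
  · exact ⟨p, r, q, t.pr, t.pq, t.n2, t.n1, t.n3.symm, rfl, ⟨0, rfl⟩, Or.inl rfl, Or.inr (Or.inr rfl)⟩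
  · refine ⟨q, r, p, t.qr, t.pq.symm, t.n3, t.n1.symm, t.n2.symm, h.dd_two t, ⟨0, pr_comm M t.pq⟩,
      Or.inr (Or.inl rfl), Or.inr (Or.inr rfl)⟩

theorem dd_mem_V (t : Tri p q r) (i : Fin 3) : dd (pr M p q) (pr M p r) i ∈ V := by
  obtain ⟨a, b, c, -, -, -, -, -, e, -⟩ := h.dd_cases t i
  rw [e]; exact pr_mem M a b

theorem ln_le (t : Tri p q r) : ln (h.line3 t) ≤ V := by
  rintro x (rfl | ⟨i, rfl⟩)
  · exact one_mem _
  · exact h.dd_mem_V t i

variable [Finite G]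

/-- `X = ⟨K_r : r ∈ V_l#⟩` -/
noncomputable abbrev XK (_ : Fw S P V D M) (_ : Tri p q r) : Subgroup G := ⨆ i : Fin 3, KK (dd (pr M p q) (pr M p r) i)

/-- `X` lies in every subgroup containing the `O₂(C_G(x))` -/
theorem X_le (t : Tri p q r) {H : Subgroup G}
    (hH : ∀ a b : Pt k m, (a = p ∨ a = q ∨ a = r) → (b = p ∨ b = q ∨ b = r) → a.1 = b.1 → a ≠ b →
      o2 (centralizer ({pr M a b} : Set G)) ≤ H) : h.XK t ≤ H := by
  refine iSup_le fun i => ?_
  obtain ⟨a, b, c, e1, -, e2, -, -, e, -, ha, hb⟩ := h.dd_cases t i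
  rw [e]
  exact (h.KK_le e1 e2).trans (hH a b ha hb e1 e2)

theorem X_le_P (t : Tri p q r) : h.XK t ≤ P := h.X_le t fun _ _ _ _ h1 h2 => h.Qle h1 h2

/-- `X` moves only `p, q, r` -/
theorem X_fix (t : Tri p q r) {g : G} (hg : g ∈ h.XK t) {s : Pt k m} (h1 : s ≠ p) (h2 : s ≠ q) (h3 : s ≠ r) :
    pp M g s = s := by
  let H : Subgroup G :=
    { carrier := {g | g ∈ P ∧ pp M g s = s}
      one_mem' := ⟨one_mem _, by rw [h.one]; rfl⟩
      mul_mem' := by
        rintro a b ⟨ha, ha1⟩ ⟨hb, hb1⟩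
        refine ⟨mul_mem ha hb, ?_⟩
        rw [h.mul ha hb, Equiv.Perm.mul_apply, hb1, ha1]
      inv_mem' := by
        rintro a ⟨ha, ha1⟩
        refine ⟨inv_mem ha, ?_⟩
        rw [h.inv ha, Equiv.Perm.inv_eq_iff_eq, ha1] }
  have hle : h.XK t ≤ H := by
    refine h.X_le t fun a b ha hb e1 e2 y hy => ⟨h.Qle e1 e2 hy, ?_⟩
    have hsa : s ≠ a := by rcases ha with rfl | rfl | rfl <;> assumption
    have hsb : s ≠ b := by rcases hb with rfl | rfl | rfl <;> assumption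
    rcases h.Qpp e1 e2 hy with e | e
    · rw [e]; rfl
    · rw [e, Equiv.swap_apply_of_ne_of_ne hsa hsb]
  exact (hle hg).2

/-- `X` centralises the elements of `V` which are constant on `p, q, r` -/
theorem X_comm (t : Tri p q r) {v : G} (hv : v ∈ V) (h1 : E M v p = E M v q) (h2 : E M v p = E M v r) {g : G}
    (hg : g ∈ h.XK t) : g * v = v * g := by
  have hle : h.XK t ≤ centralizer ({v} : Set G) := by
    refine h.X_le t fun a b ha hb e1 e2 y hy => ?_
    rw [mem_centralizer_singleton_iff]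
    refine h.perp_comm e1 e2 hy hv ?_
    have key : ∀ c, (c = p ∨ c = q ∨ c = r) → E M v c = E M v p := by
      rintro c (rfl | rfl | rfl)
      · rfl
      · exact h1.symm
      · exact h2.symm
    rw [key a ha, key b hb]
  exact mem_centralizer_singleton_iff.1 (hle hg)

/-- `X` preserves the summands -/
theorem X_fst (t : Tri p q r) {g : G} (hg : g ∈ h.XK t) (s : Pt k m) : (pp M g s).1 = s.1 := by
  have hgP := h.X_le_P t hg
  -- a point of the summand which is fixed, or the summand of `p`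
  let H : Subgroup G :=
    { carrier := {g | g ∈ P ∧ ∀ s, (pp M g s).1 = s.1}
      one_mem' := ⟨one_mem _, fun s => by rw [h.one]; rfl⟩
      mul_mem' := by
        rintro a b ⟨ha, ha1⟩ ⟨hb, hb1⟩
        refine ⟨mul_mem ha hb, fun s => ?_⟩
        rw [h.mul ha hb, Equiv.Perm.mul_apply, ha1, hb1]
      inv_mem' := by
        rintro a ⟨ha, ha1⟩
        refine ⟨inv_mem ha, fun s => ?_⟩
        have h1 := ha1 ((pp M a)⁻¹ s)
        rw [show pp M a ((pp M a)⁻¹ s) = s from (pp M a).apply_symm_apply s] at h1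
        rw [h.inv ha]
        exact h1.symm }
  have hle : h.XK t ≤ H := by
    refine h.X_le t fun a b _ _ e1 e2 y hy => ⟨h.Qle e1 e2 hy, fun s => ?_⟩
    rcases h.Qpp e1 e2 hy with e | e
    · rw [e]; rfl
    · rw [e]
      by_cases h1 : s = a
      · rw [h1, Equiv.swap_apply_left, e1]
      by_cases h2 : s = b
      · rw [h2, Equiv.swap_apply_right, e1]
      · rw [Equiv.swap_apply_of_ne_of_ne h1 h2]
  exact (hle hg).2 s

/-- `X` centralises `DD M` -/
theorem X_DD (t : Tri p q r) {d : G} (hd : d ∈ DD M) {g : G} (hg : g ∈ h.XK t) : g * d = d * g :=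
  (mem_DD.1 hd).2 g (h.X_le_P t hg) (h.X_fst t hg)

end Fw

namespace Fw

variable {S : Sylow 2 G} {P V D : Subgroup G} {M : SymK (S : Subgroup G) P V ⊥ k m} (h : Fw S P V D M)
  {μ ν : Equiv.Perm (Pt k m)} (F : Fours M μ ν) {x : Pt k m} (hx : x.2 ≠ 0)
include h F hx

/-- the points `x`, `μ x`, `0` -/
theorem tri : Tri x (μ x) (x.1, 0) where
  pq := (F.mfst x).symm
  pr := rfl
  n1 := (F.mne x hx).symm
  n2 := fun e => hx (congrArg Prod.snd e)
  n3 := fun e => hx (F.mnz.1 (congrArg Prod.snd e))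

theorem tn_pp {s : G} (hs : s ∈ tn S M μ x) : (pp M s x = x ∧ pp M s (μ x) = μ x) ∨
    (pp M s x = μ x ∧ pp M s (μ x) = x) := by
  have t := h.tri F hx
  have hsP := h.SP hs.1
  have h1 := (h.comm_iff hsP (pr_mem M x (μ x))).1 (mem_centralizer_singleton_iff.1 hs.2)
  have key : ∀ c, E M (pr M x (μ x)) c = 1 → c = x ∨ c = μ x := by
    intro c hc
    by_contra hcon
    push Not at hcon
    rw [E_pr_of_ne M t.pq hcon.1 hcon.2] at hc
    exact zero_ne_one hc
  have h2 := key _ ((h1 x).trans (E_pr_left M t.pq t.n1))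
  have h3 := key _ ((h1 (μ x)).trans (E_pr_right M t.pq t.n1))
  rcases h2 with h2 | h2
  · exact Or.inl ⟨h2, h3.resolve_left fun e => t.n1 ((pp M s).injective (h2.trans e.symm))⟩
  · exact Or.inr ⟨h2, h3.resolve_right fun e => t.n1 ((pp M s).injective (h2.trans e.symm))⟩

omit h F hx in
theorem zero_eq {y z : Pt k m} (h1 : y.1 = z.1) (h2 : y.2 = 0) : y = (z.1, 0) := Prod.ext h1 h2

/-- the fixed point of `S` in the summand is fixed -/
theorem tn_zero {s : G} (hs : s ∈ tn S M μ x) : pp M s (x.1, 0) = (x.1, 0) := by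
  have hsP := h.SP hs.1
  have h1 : (pp M s (x.1, 0)).2 = 0 := (h.snd hs.1).2 rfl
  have h2 : (pp M s (x.1, 0)).1 = (pp M s x).1 := h.fst hsP rfl
  have h3 : (pp M s x).1 = x.1 := by
    rcases h.tn_pp F hx hs with e | e
    · rw [e.1]
    · rw [e.1, F.mfst]
  exact Prod.ext (h2.trans h3) h1

/-- `T` normalises the line -/
theorem tn_norm [Finite G] : tn S M μ x ≤ normalizer (ln (h.line3 (h.tri F hx)) : Set G) := by
  have t := h.tri F hx
  intro s hs
  have hsP := h.SP hs.1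
  refine BTwo.mem_normalizer_of_conj ?_
  have h0 := h.tn_zero F hx hs
  have e0 : dd (pr M x (μ x)) (pr M x (x.1, 0)) 0 = pr M x (μ x) := rfl
  have e1 : dd (pr M x (μ x)) (pr M x (x.1, 0)) 1 = pr M x (x.1, 0) := rfl
  have e2 : dd (pr M x (μ x)) (pr M x (x.1, 0)) 2 = pr M (μ x) (x.1, 0) := h.dd_two t
  rintro y (rfl | ⟨i, rfl⟩)
  · left; group
  · right
    have k0 : s * pr M x (μ x) * s⁻¹ = pr M (pp M s x) (pp M s (μ x)) := h.conj_pr hsP t.pq
    have k1 : s * pr M x (x.1, 0) * s⁻¹ = pr M (pp M s x) (pp M s (x.1, 0)) := h.conj_pr hsP t.pr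
    have k2 : s * pr M (μ x) (x.1, 0) * s⁻¹ = pr M (pp M s (μ x)) (pp M s (x.1, 0)) := h.conj_pr hsP t.qr
    rw [h0] at k1 k2
    rcases h.tn_pp F hx hs with ⟨a1, a2⟩ | ⟨a1, a2⟩
    · rw [a1, a2] at k0
      rw [a1] at k1
      rw [a2] at k2
      fin_cases i
      · exact ⟨0, k0⟩
      · exact ⟨1, k1⟩
      · refine ⟨2, ?_⟩
        show s * dd (pr M x (μ x)) (pr M x (x.1, 0)) 2 * s⁻¹ = _
        rw [e2, k2]
    · rw [a1, a2, pr_comm M t.pq.symm] at k0
      rw [a1] at k1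
      rw [a2] at k2
      fin_cases i
      · exact ⟨0, k0⟩
      · refine ⟨2, ?_⟩
        rw [e2]; exact k1
      · refine ⟨1, ?_⟩
        show s * dd (pr M x (μ x)) (pr M x (x.1, 0)) 2 * s⁻¹ = _
        rw [e2, k2, e1]

theorem V_le_tn : V ≤ tn S M μ x := fun _ hv =>
  ⟨h.VS hv, mem_centralizer_singleton_iff.2 (h.Vcomm hv (pr_mem M _ _))⟩

theorem Q_le_tn : o2 P ≤ tn S M μ x := fun y hy => by
  refine ⟨h.QS hy, mem_centralizer_singleton_iff.2 ?_⟩
  have h1 : y ∈ centralizer (V : Set G) := by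
    have := h.Q_eq ▸ hy
    exact this.2
  exact (mem_centralizer_iff.1 h1 _ (pr_mem M _ _)).symm

/-- the elements of `T` acting as `(c μ(c))` -/
theorem exists_swap [Finite G] {c : Pt k m} (hc : c.2 ≠ 0) : ∃ s ∈ tn S M μ x, pp M s = Equiv.swap c (μ c) := by
  have hmem : Equiv.swap c (μ c) ∈ F.FA := by
    intro y
    by_cases h1 : y = c
    · rw [h1, Equiv.swap_apply_left]; exact Or.inr rfl
    by_cases h2 : y = μ c
    · rw [h2, Equiv.swap_apply_right, F.msq]; exact Or.inr rfl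
    · rw [Equiv.swap_apply_of_ne_of_ne h1 h2]; exact Or.inl rfl
  obtain ⟨s, hs, e⟩ := Fours.exists_A h.toSit F hmem
  refine ⟨s, ⟨hs.1, mem_centralizer_singleton_iff.2 (h.comm_pr (h.SP hs.1) (F.mfst x).symm ?_)⟩, e⟩
  rw [e]
  by_cases h1 : x = c
  · right
    rw [← h1, Equiv.swap_apply_left, Equiv.swap_apply_right]
    exact ⟨rfl, rfl⟩
  by_cases h2 : x = μ c
  · right
    have h3 : c = μ x := by rw [h2, F.msq]
    rw [← h3, ← h2, Equiv.swap_apply_right, Equiv.swap_apply_left]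
    exact ⟨rfl, rfl⟩
  · left
    have h3 : μ x ≠ c := fun e => h2 (by rw [← e, F.msq])
    have h4 : μ x ≠ μ c := fun e => h1 (μ.injective e)
    exact ⟨Equiv.swap_apply_of_ne_of_ne h1 h2, Equiv.swap_apply_of_ne_of_ne h3 h4⟩

/-- an element of `V` commuting with `T` is constant on the pairs -/
theorem fix_mu [Finite G] {v : G} (hv : v ∈ V) (hT : ∀ s ∈ tn S M μ x, s * v = v * s) (c : Pt k m) :
    E M v (μ c) = E M v c := by
  by_cases hc : c.2 = 0
  · rw [F.mzero c hc]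
  obtain ⟨s, hs, e⟩ := h.exists_swap F hx hc
  have h1 := (h.comm_iff (h.SP hs.1) hv).1 (hT s hs) c
  rwa [e, Equiv.swap_apply_left] at h1

/-- an element of `V` commuting with `T` is `0` on the fixed points -/
theorem fix_zero [Finite G] {v : G} (hv : v ∈ V) (hT : ∀ s ∈ tn S M μ x, s * v = v * s) (i : Fin k) :
    E M v (i, 0) = 0 := by
  have h1 : ∑ y, E M v (i, y) = 0 := M.even v hv i
  have h2 : ∑ y ∈ Finset.univ.erase (0 : Fin (2 ^ m + 1)), E M v (i, y) = 0 := by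
    refine Finset.sum_involution (fun y _ => (μ (i, y)).2) ?_ ?_ ?_ ?_
    · intro y _
      have e : ((i, (μ (i, y)).2) : Pt k m) = μ (i, y) := Prod.ext (F.mfst (i, y)).symm rfl
      rw [e, h.fix_mu F hx hv hT]
      exact CharTwo.add_self_eq_zero _
    · intro y hy hne e
      have hy0 : ((i, y) : Pt k m).2 ≠ 0 := (Finset.mem_erase.1 hy).1
      exact F.mne (i, y) hy0 (Prod.ext (F.mfst (i, y)) e)
    · intro y hy
      have hy0 : ((i, y) : Pt k m).2 ≠ 0 := (Finset.mem_erase.1 hy).1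
      exact Finset.mem_erase.2 ⟨fun e => hy0 (F.mnz.1 e), Finset.mem_univ _⟩
    · intro y hy
      have e : ((i, (μ (i, y)).2) : Pt k m) = μ (i, y) := Prod.ext (F.mfst (i, y)).symm rfl
      show (μ (i, (μ (i, y)).2)).2 = y
      rw [e, F.msq]
  rw [← Finset.add_sum_erase _ _ (Finset.mem_univ (0 : Fin (2 ^ m + 1))), h2, add_zero] at h1
  exact h1

/-- an involution centralising `O₂(P)` lies in `Ω₁Z(O₂(P))` -/
theorem mem_zc_of {z : G} (hz : z * z = 1) (hQ : ∀ y ∈ o2 P, y * z = z * y) : z ∈ zc (o2 P) :=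
  mem_zc.2 ⟨h.cQ (mem_centralizer_iff.2 fun y hy => hQ y hy), fun y hy => hQ y hy, by rw [pow_two]; exact hz⟩

theorem zc_tn_le : zc (tn S M μ x) ≤ zc (o2 P) := fun z hz => by
  have h1 := mem_zc.1 hz
  exact h.mem_zc_of F hx (by rw [← pow_two]; exact h1.2.2) fun y hy => h1.2.1 y (h.Q_le_tn F hx hy)

omit F hx in
/-- `DD M` is normalised by `P` -/
theorem DD_conj {g d : G} (hg : g ∈ P) (hd : d ∈ DD M) : g * d * g⁻¹ ∈ DD M := by
  have h1 := mem_DD.1 hd
  refine mem_DD.2 ⟨Sit.zz_conj hg h1.1, fun y hy hy1 => ?_⟩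
  have hgi := inv_mem hg
  have h2 := h1.2 (g⁻¹ * y * g) (mul_mem (mul_mem hgi hy) hg) fun r => ?_
  · calc y * (g * d * g⁻¹) = g * (g⁻¹ * y * g * d) * g⁻¹ := by group
      _ = g * (d * (g⁻¹ * y * g)) * g⁻¹ := by rw [h2]
      _ = g * d * g⁻¹ * y := by group
  · have e : pp M (g⁻¹ * y * g) = (pp M g)⁻¹ * pp M y * pp M g := by
      rw [h.mul (mul_mem hgi hy) hg, h.mul hgi hy, h.inv hg]
    rw [e, Equiv.Perm.mul_apply, Equiv.Perm.mul_apply]
    have h3 : ((pp M y) (pp M g r)).1 = (pp M g r).1 := hy1 _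
    have h4 := h.fst hgi h3
    rw [h.inv hg] at h4
    rw [h4, show (pp M g)⁻¹ (pp M g r) = r from (pp M g).symm_apply_apply r]

omit F hx in
/-- `V ∩ DD M = 1` -/
theorem eq_one_of_DD {v : G} (hv : v ∈ V) (hd : v ∈ DD M) : v = 1 := by
  classical
  refine Half.SymA.inj M hv (one_mem V) fun r => ?_
  rw [Half.SymA.E_one M]
  -- all coordinates in a summand are equal
  have key : ∀ s t : Pt k m, s.1 = t.1 → E M v s = E M v t := by
    intro s t hst
    obtain ⟨g, hg, hgp⟩ := h.exists_pp (π := Equiv.swap s t) fun p => by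
      by_cases h1 : p = s
      · rw [h1, Equiv.swap_apply_left, hst]
      by_cases h2 : p = t
      · rw [h2, Equiv.swap_apply_right, hst]
      · rw [Equiv.swap_apply_of_ne_of_ne h1 h2]
    have h1 := (mem_DD.1 hd).2 g hg fun p => by
      rw [hgp]
      by_cases h1 : p = s
      · rw [h1, Equiv.swap_apply_left, hst]
      by_cases h2 : p = t
      · rw [h2, Equiv.swap_apply_right, hst]
      · rw [Equiv.swap_apply_of_ne_of_ne h1 h2]
    have h2 := (h.comm_iff hg hv).1 h1 t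
    rw [hgp, Equiv.swap_apply_right] at h2
    exact h2
  have h1 : ∑ y, E M v (r.1, y) = 0 := M.even v hv r.1
  have h2 : ∑ y, E M v (r.1, y) = ∑ _y : Fin (2 ^ m + 1), E M v r :=
    Finset.sum_congr rfl fun y _ => key _ _ rfl
  rw [h2, Finset.sum_const, Finset.card_univ, Fintype.card_fin] at h1
  have h3 : (2 ^ m + 1) • E M v r = E M v r := by
    rw [add_smul, one_smul, nsmul_eq_mul]
    have h4 : ((2 ^ m : ℕ) : ZMod 2) = 0 := by
      rw [ZMod.natCast_eq_zero_iff]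
      exact dvd_pow_self 2 (by have := h.hm1; omega)
    rw [h4, zero_mul, zero_add]
  rwa [h3] at h1

variable (zv : zc (o2 P) ≤ V ⊔ DD M)
include zv

omit F hx in
/-- `Ω₁Z(O₂(P)) = V × DD M` -/
theorem zz_dec {z : G} (hz : z ∈ zc (o2 P)) : ∃ v ∈ V, ∃ d ∈ DD M, z = v * d := by
  have hn : (DD M : Subgroup G) ≤ normalizer (V : Set G) := by
    intro d hd
    have h1 : d ∈ P := o2_le P (zc_le _ (mem_DD.1 hd).1)
    exact h.amb.HV h1
  obtain ⟨d, hd, v, hv, rfl⟩ := mem_sup_norm hn (by rw [sup_comm]; exact zv hz)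
  exact ⟨v, hv, d, hd, Sit.zz_comm (mem_DD.1 hd).1 (h.VZ hv)⟩

/-- the components of an element of `Ω₁Z(T)` commute with `T` -/
theorem zc_tn_dec {z : G} (hz : z ∈ zc (tn S M μ x)) : ∃ v ∈ V, ∃ d ∈ DD M,
    (∀ s ∈ tn S M μ x, s * v = v * s) ∧ (∀ s ∈ tn S M μ x, s * d = d * s) ∧ z = v * d := by
  obtain ⟨v, hv, d, hd, e⟩ := h.zz_dec zv (h.zc_tn_le F hx hz)
  have key : ∀ s ∈ tn S M μ x, s * v * s⁻¹ = v ∧ s * d * s⁻¹ = d := by
    intro s hs
    have hsP := h.SP hs.1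
    have h1 := (mem_zc.1 hz).2.1 s hs
    have h2 : s * v * s⁻¹ * (s * d * s⁻¹) = v * d := by
      rw [← e]
      calc s * v * s⁻¹ * (s * d * s⁻¹) = s * (v * d) * s⁻¹ := by group
        _ = z := by rw [← e, h1]; group
    have hv' := h.amb.conj_mem hsP hv
    have hd' := h.DD_conj hsP hd
    have h3 : v⁻¹ * (s * v * s⁻¹) = d * (s * d * s⁻¹)⁻¹ := by
      rw [inv_mul_eq_iff_eq_mul, ← mul_assoc, ← h2]
      group
    have h4 : v⁻¹ * (s * v * s⁻¹) = 1 :=
      h.eq_one_of_DD (mul_mem (inv_mem hv) hv') (by rw [h3]; exact mul_mem hd (inv_mem hd'))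
    have h5 : s * v * s⁻¹ = v := (inv_mul_eq_one.1 h4).symm
    refine ⟨h5, ?_⟩
    rw [h5] at h2
    exact mul_left_cancel h2
  exact ⟨v, hv, d, hd, fun s hs => mul_inv_eq_iff_eq_mul.1 (key s hs).1,
    fun s hs => mul_inv_eq_iff_eq_mul.1 (key s hs).2, e⟩

/-- `Ω₁Z(T) = ⟨n⟩ Z₀` -/
theorem hdec [Finite G] {z : G} (hz : z ∈ zc (tn S M μ x)) : ∃ v ∈ ln (h.line3 (h.tri F hx)), ∃ c,
    (∀ y ∈ h.XK (h.tri F hx), y * c = c * y) ∧ (∀ t ∈ tn S M μ x, t * c = c * t) ∧ z = v * c := by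
  have t := h.tri F hx
  obtain ⟨v, hv, d, hd, hvT, hdT, rfl⟩ := h.zc_tn_dec F hx zv hz
  have h0 := h.fix_zero F hx hv hvT x.1
  have h1 := h.fix_mu F hx hv hvT x
  have hdX : ∀ y ∈ h.XK t, y * d = d * y := fun y hy => h.X_DD t hd hy
  have hmulc : ∀ {y a b : G}, y * a = a * y → y * b = b * y → y * (a * b) = a * b * y := by
    intro y a b h2 h3
    rw [← mul_assoc, h2, mul_assoc, h3, mul_assoc]
  by_cases hE : E M v x = 0
  · refine ⟨1, one_mem _, v * d, fun y hy => ?_, fun s hs => ?_, (one_mul _).symm⟩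
    · exact hmulc (h.X_comm t hv h1.symm (by rw [hE, h0]) hy) (hdX y hy)
    · exact hmulc (hvT s hs) (hdT s hs)
  · have hE1 : E M v x = 1 := by
      have : ∀ y : ZMod 2, y ≠ 0 → y = 1 := by decide
      exact this _ hE
    have hn := pr_mem M x (μ x)
    have hV := mul_mem hn hv
    have hadd := Half.SymA.E_mul M hn hv
    refine ⟨pr M x (μ x), (h.line3 t).dd_mem 0, pr M x (μ x) * v * d, fun y hy => hmulc (h.X_comm t hV ?_ ?_ hy)
      (hdX y hy), ?_, ?_⟩
    · rw [hadd, hadd, E_pr_left M t.pq t.n1, E_pr_right M t.pq t.n1, h1]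
    · rw [hadd, hadd, E_pr_left M t.pq t.n1, E_pr_of_ne M t.pq t.n2.symm t.n3.symm, h0, hE1]
      decide
    · intro s hs
      exact hmulc (hmulc (mem_centralizer_singleton_iff.1 hs.2) (hvT s hs)) (hdT s hs)
    · rw [← mul_assoc, ← mul_assoc, h.pr_sq, one_mul]

end Fw


namespace Fw

variable {S : Sylow 2 G} {P V D : Subgroup G} {M : SymK (S : Subgroup G) P V ⊥ k m} (h : Fw S P V D M)
  {μ ν : Equiv.Perm (Pt k m)} (F : Fours M μ ν)
include h

theorem pp_zero {s : G} (hs : s ∈ (S : Subgroup G)) (c : Pt k m) : pp M s (c.1, 0) = ((pp M s c).1, 0) :=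
  Prod.ext (h.fst (h.SP hs) rfl) ((h.snd hs).2 rfl)

theorem conj_zz {s : G} (hs : s ∈ (S : Subgroup G)) (c : Pt k m) :
    s * pr M (c.1, 0) c * s⁻¹ = pr M ((pp M s c).1, 0) (pp M s c) := by
  rw [h.conj_pr (h.SP hs) (p := (c.1, 0)) (q := c) rfl, h.pp_zero hs]

omit h in
open scoped Classical in
theorem E_zz (M : SymK (S : Subgroup G) P V ⊥ k m) {c q : Pt k m} (hq : q.2 ≠ 0) :
    E M (pr M (c.1, 0) c) q = if q = c then 1 else 0 := by
  rw [E_pr M (p := (c.1, 0)) (q := c) rfl, if_neg (fun h0 : q = (c.1, 0) => hq (by rw [h0])), zero_add]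

omit h in
theorem exists_pt4 (hm : 2 ≤ m) (l : Fin k) (s : Finset (Pt k m)) (hs : s.card ≤ 4) :
    ∃ p : Pt k m, p.1 = l ∧ p ∉ s := by
  classical
  by_contra hcon
  push Not at hcon
  have h1 : (Finset.univ : Finset (Fin (2 ^ m + 1))).image (fun x => ((l, x) : Pt k m)) ⊆ s := by
    intro p hp
    obtain ⟨x, -, rfl⟩ := Finset.mem_image.1 hp
    exact hcon _ rfl
  have h2 := Finset.card_le_card h1
  rw [Finset.card_image_of_injective _ (fun x y hxy => (Prod.mk.inj hxy).2), Finset.card_univ, Fintype.card_fin] at h2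
  have h3 : 2 ^ 2 ≤ 2 ^ m := Nat.pow_le_pow_right (by norm_num) hm
  omega

include F in
/-- **The centres of the elements of `S` acting as transvections on `V`.** -/
theorem trv {s r : G} (hs : s ∈ (S : Subgroup G)) (h1 : ∀ v ∈ V, s * v * s⁻¹ = v ∨ s * v * s⁻¹ = v * r)
    (h2 : ∃ c : Pt k m, c.2 ≠ 0 ∧ pp M s c ≠ c) :
    ∃ c : Pt k m, c.2 ≠ 0 ∧ r = pr M c (μ c) ∧ pp M s c = μ c := by
  classical
  -- the moved points
  have hr : ∀ c : Pt k m, c.2 ≠ 0 → pp M s c ≠ c →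
      r = pr M (c.1, 0) c * pr M ((pp M s c).1, 0) (pp M s c) := by
    intro c hc hmv
    have h3 : s * pr M (c.1, 0) c * s⁻¹ = pr M (c.1, 0) c * r := by
      refine (h1 _ (pr_mem M _ _)).resolve_left fun h0 => ?_
      rw [h.conj_zz hs] at h0
      have h4 := congrArg (fun v => E M v c) h0
      simp only [E_zz M hc] at h4
      rw [if_neg hmv.symm] at h4
      exact zero_ne_one h4
    rw [h.conj_zz hs] at h3
    rw [h3, ← mul_assoc, h.Vsq (pr_mem M _ _), one_mul]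
  have hEr : ∀ c : Pt k m, c.2 ≠ 0 → pp M s c ≠ c → ∀ q : Pt k m, q.2 ≠ 0 →
      E M r q = (if q = c then 1 else 0) + (if q = pp M s c then 1 else 0) := by
    intro c hc hmv q hq
    rw [hr c hc hmv, Half.SymA.E_mul M (pr_mem M _ _) (pr_mem M _ _), E_zz M hq, E_zz M hq]
  obtain ⟨c, hc, hmv⟩ := h2
  have hEc : E M r c = 1 := by
    rw [hEr c hc hmv c hc, if_neg hmv.symm, if_pos rfl, add_zero]
  -- step 1
  have hblk : (pp M s c).1 = c.1 := by
    by_contra hne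
    obtain ⟨c₂, hc₂, hc₂s⟩ := exists_pt4 h.hm c.1 ({(c.1, 0), c} : Finset (Pt k m))
      (Finset.card_le_two.trans (by norm_num))
    rw [Finset.mem_insert, Finset.mem_singleton, not_or] at hc₂s
    obtain ⟨h3, h4⟩ := hc₂s
    have h6 : c₂.2 ≠ 0 := fun h0 => h3 (Prod.ext hc₂ h0)
    have h7 : (pp M s c₂).1 = (pp M s c).1 := h.fst (h.SP hs) hc₂
    have h8 : pp M s c₂ ≠ c₂ := fun h0 => hne (by rw [← h7, h0, hc₂])
    have h9 := hEr c₂ h6 h8 c hc
    rw [if_neg (fun h0 : c = pp M s c₂ => hne (by rw [← h7, ← h0])), if_neg (fun h0 : c = c₂ => h4 h0.symm), hEc,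
      add_zero] at h9
    exact one_ne_zero h9
  -- step 2
  have hμc : (μ c).2 ≠ 0 := fun h0 => hc (F.mnz.1 h0)
  have hμm : pp M s (μ c) ≠ μ c := fun h0 => hmv (μ.injective (by rw [← F.meqv s hs, h0]))
  have h3 := hEr (μ c) hμc hμm c hc
  rw [hEc, if_neg (F.mne c hc).symm, zero_add, F.meqv s hs] at h3
  have h4 : c = μ (pp M s c) := by
    by_contra h0
    rw [if_neg h0] at h3
    exact one_ne_zero h3
  have h5 : pp M s c = μ c := by rw [h4, F.msq, ← h4]
  refine ⟨c, hc, ?_, h5⟩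
  rw [hr c hc hmv, h5, F.mfst, pr_comm M (p := (c.1, 0)) (q := c) rfl,
    pr_mul M (p := c) (q := (c.1, 0)) (r := μ c) rfl (F.mfst c).symm]

/-- an element of `S` fixing all letters `≠ 0` centralises `ZZ` -/
theorem comm_zz_of_fix {s : G} (hs : s ∈ (S : Subgroup G)) (h1 : ∀ c : Pt k m, c.2 ≠ 0 → pp M s c = c) {z : G}
    (hz : z ∈ zc (o2 P)) : s * z = z * s := by
  have h2 : pp M s = 1 := by
    ext1 q
    by_cases hq : q.2 = 0
    · obtain ⟨c, hc, hcs⟩ := exists_pt4 h.hm q.1 ({(q.1, 0)} : Finset (Pt k m)) (by simp)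
      rw [Finset.mem_singleton] at hcs
      have hc0 : c.2 ≠ 0 := fun h0 => hcs (Prod.ext hc h0)
      have h4 := h.pp_zero hs c
      rw [h1 c hc0, hc] at h4
      have h5 : q = (q.1, 0) := Prod.ext rfl hq
      rw [h5, h4]
      rfl
    · exact h1 q hq
  have h3 := (h.mem_Q_iff hs).2 h2
  exact (mem_zc.1 hz).2.1 s h3

theorem P_le_NZZ : P ≤ normalizer (zc (o2 P) : Set G) :=
  (le_normalizer_o2 P).trans (normalizer_le_normalizer_zc _)

section fin

variable [Finite G] (zv : zc (o2 P) ≤ V ⊔ DD M)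

omit F h in
theorem swap_fst_eq {p q : Pt k m} (hpq : p.1 = q.1) (r : Pt k m) : (Equiv.swap p q r).1 = r.1 := by
  by_cases h1 : r = p
  · rw [h1, Equiv.swap_apply_left, hpq]
  by_cases h2 : r = q
  · rw [h2, Equiv.swap_apply_right, hpq]
  · rw [Equiv.swap_apply_of_ne_of_ne h1 h2]

include zv in
/-- the action on `ZZ` of an element inducing `(p q)` -/
theorem swap_zz {g : G} (hgP : g ∈ P) {p q : Pt k m} (hpq : p.1 = q.1) (hg : pp M g = Equiv.swap p q) {z : G}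
    (hz : z ∈ zc (o2 P)) : g * z * g⁻¹ = z ∨ g * z * g⁻¹ = z * pr M p q := by
  obtain ⟨v, hv, d, hd, rfl⟩ := h.zz_dec zv hz
  have hgd : g * d * g⁻¹ = d := by
    rw [(mem_DD.1 hd).2 g hgP fun r => ?_, mul_inv_cancel_right]
    rw [hg]; exact swap_fst_eq hpq r
  have e : g * (v * d) * g⁻¹ = g * v * g⁻¹ * d := by
    calc g * (v * d) * g⁻¹ = g * v * g⁻¹ * (g * d * g⁻¹) := by group
      _ = g * v * g⁻¹ * d := by rw [hgd]
  rw [e]
  by_cases hE : E M v p = E M v q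
  · left
    rw [h.comm_perp_of (p := p) (q := q) hgP (Or.inr hg) hv hE, mul_inv_cancel_right]
  · right
    rw [h.conj_swap hgP hpq hg hv hE, mul_assoc, mul_assoc,
      Sit.zz_comm (h.VZ (pr_mem M p q)) (mem_DD.1 hd).1]

variable {x : Pt k m} (hx : x.2 ≠ 0)
include F hx zv

/-- the group `R` -/
theorem lemC_exists {R : Subgroup G} (hR : IsPGroup 2 R) (hTR : tn S M μ x ≤ R)
    (hRN : R ≤ normalizer (zc (o2 P) : Set G)) : ∃ g ∈ normalizer (zc (o2 P) : Set G),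
      (∀ y ∈ R, g * y * g⁻¹ ∈ (S : Subgroup G)) ∧
      ∀ c : Pt k m, c.2 ≠ 0 → ∃ c' : Pt k m, c'.2 ≠ 0 ∧ g * pr M c (μ c) * g⁻¹ = pr M c' (μ c') := by
  obtain ⟨g, hg, hgR⟩ := FFThm.exists_conj_le S (h.SP.trans h.P_le_NZZ) hR hRN
  have hgR' : ∀ y ∈ R, g * y * g⁻¹ ∈ (S : Subgroup G) := fun y hy =>
    hgR (by rw [mem_cj]; convert hy using 1; group)
  refine ⟨g, hg, hgR', fun c hc => ?_⟩
  obtain ⟨τ, hτ, hτp⟩ := h.exists_swap F hx hc
  have hτP := h.SP hτ.1
  have hcc : c.1 = (μ c).1 := (F.mfst c).symm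
  have hs := hgR' τ (hTR hτ)
  have hgi : ∀ z ∈ zc (o2 P), g⁻¹ * z * g ∈ zc (o2 P) := fun z hz => by
    have := (mem_normalizer_iff.1 (inv_mem hg) z).1 hz
    rwa [inv_inv] at this
  have key : ∀ z ∈ zc (o2 P), g * τ * g⁻¹ * z * (g * τ * g⁻¹)⁻¹ = z ∨
      g * τ * g⁻¹ * z * (g * τ * g⁻¹)⁻¹ = z * (g * pr M c (μ c) * g⁻¹) := by
    intro z hz
    have e : g * τ * g⁻¹ * z * (g * τ * g⁻¹)⁻¹ = g * (τ * (g⁻¹ * z * g) * τ⁻¹) * g⁻¹ := by group
    rw [e]
    rcases h.swap_zz zv hτP hcc hτp (hgi z hz) with h1 | h1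
    · left; rw [h1]; group
    · right; rw [h1]; group
  have hmv : ∃ c : Pt k m, c.2 ≠ 0 ∧ pp M (g * τ * g⁻¹) c ≠ c := by
    by_contra hcon
    push Not at hcon
    -- `τ` centralises `ZZ`
    have h1 : ∀ z ∈ zc (o2 P), τ * z = z * τ := by
      intro z hz
      have h2 := h.comm_zz_of_fix hs hcon ((mem_normalizer_iff.1 hg z).1 hz)
      calc τ * z = g⁻¹ * (g * τ * g⁻¹ * (g * z * g⁻¹)) * g := by group
        _ = z * τ := by rw [h2]; group
    have hE : E M (pr M (c.1, 0) c) c ≠ E M (pr M (c.1, 0) c) (μ c) := by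
      classical
      rw [E_zz M hc, E_zz M (fun h0 => hc (F.mnz.1 h0)), if_pos rfl, if_neg (F.mne c hc)]
      exact one_ne_zero
    have h2 := h.conj_swap hτP hcc hτp (pr_mem M (c.1, 0) c) hE
    rw [h1 _ (h.VZ (pr_mem M (c.1, 0) c)), mul_inv_cancel_right] at h2
    exact h.pr_ne hcc (F.mne c hc).symm (mul_left_cancel ((mul_one _).trans h2)).symm
  obtain ⟨c', hc', h1, -⟩ := h.trv F hs (fun v hv => key v (h.VZ hv)) hmv
  exact ⟨c', hc', h1⟩

/-- **LEMMA C, the centres** -/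
theorem lemC_cen {R : Subgroup G} (hR : IsPGroup 2 R) (hTR : tn S M μ x ≤ R)
    (hRN : R ≤ normalizer (zc (o2 P) : Set G)) {y p : G} (hy : y ∈ R)
    (h1 : ∀ z ∈ zc (o2 P), y * z * y⁻¹ = z ∨ y * z * y⁻¹ = z * p) (h2 : ∃ z ∈ zc (o2 P), y * z ≠ z * y) :
    ∃ c : Pt k m, c.2 ≠ 0 ∧ p = pr M c (μ c) := by
  obtain ⟨g, hg, hgR, hgc⟩ := h.lemC_exists F zv hx hR hTR hRN
  have hgi : ∀ z ∈ zc (o2 P), g⁻¹ * z * g ∈ zc (o2 P) := fun z hz => by
    have := (mem_normalizer_iff.1 (inv_mem hg) z).1 hz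
    rwa [inv_inv] at this
  -- `g p g⁻¹` is a duad
  obtain ⟨c, hc, hgp, -⟩ := h.trv F (s := g * y * g⁻¹) (r := g * p * g⁻¹) (hgR y hy) (fun v hv => by
    have e : g * y * g⁻¹ * v * (g * y * g⁻¹)⁻¹ = g * (y * (g⁻¹ * v * g) * y⁻¹) * g⁻¹ := by group
    rw [e]
    rcases h1 _ (hgi v (h.VZ hv)) with h3 | h3
    · left; rw [h3]; group
    · right; rw [h3]; group) (by
    by_contra hcon
    push Not at hcon
    obtain ⟨z, hz, h3⟩ := h2
    apply h3
    have h4 := h.comm_zz_of_fix (hgR y hy) hcon ((mem_normalizer_iff.1 hg z).1 hz)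
    calc y * z = g⁻¹ * (g * y * g⁻¹ * (g * z * g⁻¹)) * g := by group
      _ = z * y := by rw [h4]; group)
  -- `c ↦ g c g⁻¹` is surjective on the duads
  let X : Type _ := {v : G // ∃ c : Pt k m, c.2 ≠ 0 ∧ v = pr M c (μ c)}
  let f : X → X := fun v => ⟨g * v.1 * g⁻¹, by
    obtain ⟨c, hc, e⟩ := v.2
    obtain ⟨c', hc', e'⟩ := hgc c hc
    exact ⟨c', hc', by rw [e, e']⟩⟩
  have hf : Function.Injective f := by
    intro a b hab
    have h3 : g * a.1 * g⁻¹ = g * b.1 * g⁻¹ := congrArg Subtype.val hab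
    exact Subtype.ext (mul_left_cancel (mul_right_cancel h3))
  obtain ⟨⟨v, hv⟩, hv2⟩ := Finite.surjective_of_injective hf ⟨pr M c (μ c), c, hc, rfl⟩
  have h3 : g * v * g⁻¹ = pr M c (μ c) := congrArg Subtype.val hv2
  obtain ⟨c', hc', rfl⟩ := hv
  refine ⟨c', hc', ?_⟩
  rw [← hgp] at h3
  exact (mul_left_cancel (mul_right_cancel h3)).symm

/-- **LEMMA C, the order** -/
theorem lemC_le {R : Subgroup G} (hR : IsPGroup 2 R) (hTR : tn S M μ x ≤ R)
    (hRN : R ≤ normalizer (zc (o2 P) : Set G)) (hRn : R ≤ centralizer ({pr M x (μ x)} : Set G)) :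
    R ≤ tn S M μ x := by
  obtain ⟨g, hg, hgR, hgc⟩ := h.lemC_exists F zv hx hR hTR hRN
  obtain ⟨c, hc, hcn⟩ := hgc x hx
  obtain ⟨s, hs, hsc⟩ := h.trans hx hc
  have hpq : x.1 = (μ x).1 := (F.mfst x).symm
  have hsn : s * pr M x (μ x) * s⁻¹ = pr M c (μ c) := by
    rw [h.conj_pr (h.SP hs) hpq, F.meqv s hs, hsc]
  have h1 : R.map (MulAut.conj (s⁻¹ * g)).toMonoidHom ≤ tn S M μ x := by
    rintro _ ⟨y, hy, rfl⟩
    have hyS := hgR y hy
    have hyn : y * pr M x (μ x) = pr M x (μ x) * y := mem_centralizer_singleton_iff.1 (hRn hy)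
    show s⁻¹ * g * y * (s⁻¹ * g)⁻¹ ∈ _
    have e : s⁻¹ * g * y * (s⁻¹ * g)⁻¹ = s⁻¹ * (g * y * g⁻¹) * s := by group
    rw [e]
    refine mem_inf.2 ⟨mul_mem (mul_mem (inv_mem hs) hyS) hs, mem_centralizer_singleton_iff.2 ?_⟩
    have h2 : g * y * g⁻¹ * pr M c (μ c) = pr M c (μ c) * (g * y * g⁻¹) := by
      rw [← hcn]
      calc g * y * g⁻¹ * (g * pr M x (μ x) * g⁻¹) = g * (y * pr M x (μ x)) * g⁻¹ := by group
        _ = g * pr M x (μ x) * g⁻¹ * (g * y * g⁻¹) := by rw [hyn]; group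
    rw [← hsn] at h2
    calc s⁻¹ * (g * y * g⁻¹) * s * pr M x (μ x) = s⁻¹ * (g * y * g⁻¹ * (s * pr M x (μ x) * s⁻¹)) * s := by group
      _ = pr M x (μ x) * (s⁻¹ * (g * y * g⁻¹) * s) := by rw [h2]; group
  have h2 : Nat.card R ≤ Nat.card (tn S M μ x) := by
    have e : Nat.card (R.map (MulAut.conj (s⁻¹ * g)).toMonoidHom) = Nat.card R :=
      card_map_of_injective (MulAut.conj (s⁻¹ * g)).injective
    rw [← e]
    exact card_le_of_le h1
  exact (eq_of_le_of_card_ge hTR h2).ge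

end fin

end Fw

end Cfsg.Agent.Omega.IId.SymWrD.Hw

end

section


/-!
# THEOREM SYL^ (bb OMEGA #21666, helper916), steps (2), (3), over a line `{1, a, b, ab}`, partner-free

`XT h W` : groups `W i ≤ O₂(C(d i))`, `[O₂(C(d i)), W i] ≤ ⟨d i⟩`, conjugate, swapping the other two points.
`Cf h W T` : `T ≤ C(a)` is a 2-group of odd index in `N_G({1, a, b, ab})`, with the decomposition of `Ω₁Z(T)` and `(zt)`.
* `Cf.main` : `T < T'`, `T' ≤ C(a)` a 2-group, `1 ≠ x ∈ Ω₁Z(T') ∩ C(X)`, `X = ⟨W i⟩` `⟹` there are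
  `1 ≠ k ∈ Ω₁Z(T) ∩ C(X)` and `γ ∈ C(k)`, `a^γ = a k`, `b^γ = b k`.
-/

set_option autoImplicit false
set_option linter.unusedSectionVars false

namespace Cfsg.Agent.Omega.IId.SymWrD.Hw.TwoK

open Subgroup Cfsg
open Cfsg.Agent.ZN (o2 zc)
open Cfsg.Agent.Omega.HT.LineOf (Ln ln pts dd Act fun_cases third_eq)
open Cfsg.Agent.Omega.BTwo (O2 cj)
open Cfsg.Agent.MinSimple.VModule (le_normalizer_o2 o2_isPGroup o2_le mem_zc zc_le le_o2 o2_le_of_sylow)

universe u

variable {G : Type u} [Group G]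

/-- `O₂(C(d i))` -/
abbrev Qd (a b : G) (i : Fin 3) : Subgroup G := o2 (centralizer ({dd a b i} : Set G))

/-- `X = ⟨W i⟩` -/
abbrev XW (W : Fin 3 → Subgroup G) : Subgroup G := ⨆ i, W i

/-- the groups `W i` -/
structure XT {a b : G} (h : Ln a b) (W : Fin 3 → Subgroup G) : Prop where
  VQ : ∀ i, ln h ≤ Qd a b i
  QV : ∀ i, ∀ g ∈ Qd a b i, ∀ v ∈ ln h, g * v * g⁻¹ * v⁻¹ ∈ pts a b i
  W_le_Q : ∀ i, W i ≤ Qd a b i
  QW : ∀ i, ∀ g ∈ Qd a b i, ∀ w ∈ W i, g * w * g⁻¹ * w⁻¹ ∈ pts a b i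
  cjW : ∀ (g : G) (i j : Fin 3), g * dd a b i * g⁻¹ = dd a b j → ∀ w ∈ W i, g * w * g⁻¹ ∈ W j
  sw : ∀ i j k : Fin 3, j ≠ i → k ≠ i → ∃ w ∈ W i, w * dd a b j * w⁻¹ = dd a b k

theorem third : ∀ i j : Fin 3, ∃ k, k ≠ i ∧ k ≠ j := by decide

namespace XT

variable {a b : G} {h : Ln a b} {W : Fin 3 → Subgroup G} (x : XT h W)
include x

theorem V_comm {v w : G} (hv : v ∈ ln h) (hw : w ∈ ln h) : v * w = w * v := by
  rcases hv with rfl | ⟨i, rfl⟩
  · rw [one_mul, mul_one]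
  · rcases hw with rfl | ⟨j, rfl⟩
    · rw [one_mul, mul_one]
    · exact h.dd_comm i j

theorem V_sq {v : G} (hv : v ∈ ln h) : v * v = 1 := by
  rcases hv with rfl | ⟨i, rfl⟩
  · exact mul_one 1
  · exact h.dd_sq i

theorem V_le_cen : ln h ≤ centralizer (ln h : Set G) := fun v hv => by
  rw [mem_centralizer_iff]
  exact fun w hw => x.V_comm hw hv

theorem Q_comm {i : Fin 3} {g : G} (hg : g ∈ Qd a b i) : g * dd a b i = dd a b i * g :=
  mem_centralizer_singleton_iff.1 (o2_le _ hg)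

theorem cen_le_C (j : Fin 3) : centralizer (ln h : Set G) ≤ centralizer ({dd a b j} : Set G) := fun g hg =>
  mem_centralizer_singleton_iff.2 (mem_centralizer_iff.1 hg _ (h.dd_mem j)).symm

theorem W_le_X (i : Fin 3) : W i ≤ XW W := le_iSup W i

/-- an element of `Q j` fixing another point centralises `L` -/
theorem mem_cen_Q {i j : Fin 3} (hij : i ≠ j) {w : G} (hw : w ∈ Qd a b j) (hi : w * dd a b i * w⁻¹ = dd a b i) :
    w ∈ centralizer (ln h : Set G) := by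
  have h1 : w * dd a b i = dd a b i * w := mul_inv_eq_iff_eq_mul.1 hi
  have h2 := x.Q_comm hw
  rw [mem_centralizer_iff]
  rintro v (rfl | ⟨l, rfl⟩)
  · rw [one_mul, mul_one]
  · by_cases hl : l = i
    · rw [hl]; exact h1.symm
    by_cases hl' : l = j
    · rw [hl']; exact h2.symm
    · rw [← h.dd_mul hij (Ne.symm hl) (Ne.symm hl'), mul_assoc, ← h2, ← mul_assoc, ← h1, mul_assoc]

theorem trans_X_one (i k : Fin 3) : ∃ y ∈ XW W, y * dd a b i * y⁻¹ = dd a b k := by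
  obtain ⟨m, hm1, hm2⟩ := third i k
  obtain ⟨w, hw, e⟩ := x.sw m i k (Ne.symm hm1) (Ne.symm hm2)
  exact ⟨w, x.W_le_X m hw, e⟩

variable [Finite G]

theorem Q_le_NV (i : Fin 3) : Qd a b i ≤ normalizer (ln h : Set G) := by
  intro g hg
  refine BTwo.mem_normalizer_of_conj fun v hv => ?_
  have h1 := h.pts_le i (x.QV i g hg v hv)
  have e : g * v * g⁻¹ = g * v * g⁻¹ * v⁻¹ * v := by group
  rw [e]
  exact mul_mem h1 hv

theorem X_le_NV : XW W ≤ normalizer (ln h : Set G) := iSup_le fun i => (x.W_le_Q i).trans (x.Q_le_NV i)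

theorem perm {g : G} (hg : g ∈ normalizer (ln h : Set G)) (i : Fin 3) : ∃ j, g * dd a b i * g⁻¹ = dd a b j := by
  rcases BTwo.conj_mem_of_normalizer hg (h.dd_mem i) with e | ⟨j, e⟩
  · exact absurd (conj_eq_one_iff.1 e) (h.dd_ne i)
  · exact ⟨j, e⟩

/-- `X` is 2-transitive on the points -/
theorem trans_X {i j k l : Fin 3} (hij : i ≠ j) (hkl : k ≠ l) :
    ∃ y ∈ XW W, y * dd a b i * y⁻¹ = dd a b k ∧ y * dd a b j * y⁻¹ = dd a b l := by
  obtain ⟨y, hy, e1⟩ := x.trans_X_one i k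
  obtain ⟨j', e2⟩ := x.perm (x.X_le_NV hy) j
  have hj' : j' ≠ k := by
    rintro rfl
    exact hij (h.dd_inj (mul_left_cancel (mul_right_cancel (e1.trans e2.symm))))
  obtain ⟨w, hw, e3⟩ := x.sw k j' l hj' (Ne.symm hkl)
  have hwk := x.Q_comm (x.W_le_Q k hw)
  refine ⟨w * y, mul_mem (x.W_le_X k hw) hy, ?_, ?_⟩
  · calc w * y * dd a b i * (w * y)⁻¹ = w * (y * dd a b i * y⁻¹) * w⁻¹ := by group
      _ = dd a b k := by rw [e1, hwk, mul_inv_cancel_right]
  · calc w * y * dd a b j * (w * y)⁻¹ = w * (y * dd a b j * y⁻¹) * w⁻¹ := by group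
      _ = dd a b l := by rw [e2, e3]

theorem X_eq {i j : Fin 3} (hij : i ≠ j) : XW W = W i ⊔ W j := by
  apply le_antisymm
  · refine iSup_le fun k => ?_
    by_cases hk : k = i
    · subst hk; exact le_sup_left
    by_cases hk' : k = j
    · subst hk'; exact le_sup_right
    obtain ⟨w, hw, e⟩ := x.sw i j k (Ne.symm hij) hk
    intro y hy
    have e' : w⁻¹ * dd a b k * w⁻¹⁻¹ = dd a b j := by rw [← e]; group
    have h1 := x.cjW w⁻¹ k j e' y hy
    rw [inv_inv] at h1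
    have h2 : w ∈ W i ⊔ W j := mem_sup_left hw
    have h3 := mul_mem (mul_mem h2 (mem_sup_right h1)) (inv_mem h2)
    have e3 : w * (w⁻¹ * y * w) * w⁻¹ = y := by group
    rwa [e3] at h3
  · exact sup_le (x.W_le_X i) (x.W_le_X j)

theorem NV_le_NX : normalizer (ln h : Set G) ≤ normalizer (XW W : Set G) := by
  intro g hg
  rw [← BTwo.cj_eq_self_iff]
  have h1 : cj g (XW W) ≤ XW W := by
    rw [BTwo.cj_iSup]
    refine iSup_le fun i => ?_
    obtain ⟨j, hj⟩ := x.perm hg i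
    rintro _ ⟨y, hy, rfl⟩
    exact x.W_le_X j (x.cjW g i j hj y hy)
  exact eq_of_le_of_card_ge h1 (BTwo.card_cj g (XW W)).ge

theorem cen_VX {v : G} (hv : v ∈ ln h) (hX : v ∈ centralizer (XW W : Set G)) : v = 1 := by
  rcases hv with rfl | ⟨i, rfl⟩
  · rfl
  · exfalso
    obtain ⟨k, hk, -⟩ := third i i
    obtain ⟨y, hy, e⟩ := x.trans_X_one i k
    rw [mem_centralizer_iff.1 hX y hy, mul_inv_cancel_right] at e
    exact hk (h.dd_inj e).symm

theorem mem_cen_X {i j : Fin 3} (hij : i ≠ j) {y : G} (hi : y ∈ centralizer (W i : Set G))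
    (hj : y ∈ centralizer (W j : Set G)) : y ∈ centralizer (XW W : Set G) := by
  rw [x.X_eq hij]
  exact BTwo.mem_cen_sup hi hj

theorem R_cen_W (i : Fin 3) : dd a b i ∈ centralizer (W i : Set G) := by
  rw [mem_centralizer_iff]
  exact fun w hw => x.Q_comm (x.W_le_Q i hw)

/-- `N_K(L)` centralises `L` -/
theorem cen_of {K : Subgroup G} (hX : XW W ≤ normalizer (K : Set G))
    (h2 : ∀ g ∈ K, g ∈ normalizer (ln h : Set G) → ∃ n : ℕ, g ^ 2 ^ n ∈ centralizer (ln h : Set G)) {g : G}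
    (hgK : g ∈ K) (hgN : g ∈ normalizer (ln h : Set G)) : g ∈ centralizer (ln h : Set G) := by
  obtain ⟨σ, hσ⟩ := h.exists_act hgN
  obtain ⟨n, hn⟩ := h2 g hgK hgN
  rcases fun_cases σ (h.act_inj hσ) with h0 | h0 | ⟨i, j, l, hij, hil, hjl, e1, e2, e3⟩
  · rw [h.mem_cen_iff]
    intro i
    rw [hσ i, h0 i]
    rfl
  · exact h.cen_of_three hσ h0 hn
  · exfalso
    obtain ⟨y, hy, g1, g2⟩ := x.trans_X (i := i) (j := j) (k := j) (l := l) hij hjl
    have g3 : y * dd a b l * y⁻¹ = dd a b i := by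
      rw [← h.dd_mul hij hil hjl]
      calc y * (dd a b i * dd a b j) * y⁻¹ = (y * dd a b i * y⁻¹) * (y * dd a b j * y⁻¹) := by group
        _ = dd a b i := by rw [g1, g2]; exact h.dd_mul hjl hij.symm hil.symm
    have inv : ∀ {i j : Fin 3}, y * dd a b i * y⁻¹ = dd a b j → y⁻¹ * dd a b j * y = dd a b i := by
      intro i j e; rw [← e]; group
    -- the conjugate
    obtain ⟨g', hg'⟩ : ∃ g', g' = y * g * y⁻¹ := ⟨_, rfl⟩
    have hg'K : g' ∈ K := by rw [hg']; exact BTwo.conj_mem_of_normalizer (hX hy) hgK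
    have k1 : g' * dd a b j * g'⁻¹ = dd a b j := by
      calc g' * dd a b j * g'⁻¹ = y * (g * (y⁻¹ * dd a b j * y) * g⁻¹) * y⁻¹ := by rw [hg']; group
        _ = dd a b j := by rw [inv g1, hσ, e1, g1]
    have k2 : g' * dd a b l * g'⁻¹ = dd a b i := by
      calc g' * dd a b l * g'⁻¹ = y * (g * (y⁻¹ * dd a b l * y) * g⁻¹) * y⁻¹ := by rw [hg']; group
        _ = dd a b i := by rw [inv g2, hσ, e2, g3]
    have k3 : g' * dd a b i * g'⁻¹ = dd a b l := by
      calc g' * dd a b i * g'⁻¹ = y * (g * (y⁻¹ * dd a b i * y) * g⁻¹) * y⁻¹ := by rw [hg']; group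
        _ = dd a b l := by rw [inv g3, hσ, e3, g2]
    -- the 3-cycle `g g'`
    have m1 : g * g' * dd a b i * (g * g')⁻¹ = dd a b j := by
      calc g * g' * dd a b i * (g * g')⁻¹ = g * (g' * dd a b i * g'⁻¹) * g⁻¹ := by group
        _ = dd a b j := by rw [k3, hσ, e3]
    have m2 : g * g' * dd a b j * (g * g')⁻¹ = dd a b l := by
      calc g * g' * dd a b j * (g * g')⁻¹ = g * (g' * dd a b j * g'⁻¹) * g⁻¹ := by group
        _ = dd a b l := by rw [k1, hσ, e2]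
    have m3 : g * g' * dd a b l * (g * g')⁻¹ = dd a b i := by
      calc g * g' * dd a b l * (g * g')⁻¹ = g * (g' * dd a b l * g'⁻¹) * g⁻¹ := by group
        _ = dd a b i := by rw [k2, hσ, e1]
    have hg'N : g' ∈ normalizer (ln h : Set G) := by
      rw [hg']
      exact mul_mem (mul_mem (x.X_le_NV hy) hgN) (inv_mem (x.X_le_NV hy))
    have hNN : g * g' ∈ normalizer (ln h : Set G) := mul_mem hgN hg'N
    obtain ⟨τ, hτ⟩ := h.exists_act hNN
    obtain ⟨n', hn'⟩ := h2 _ (mul_mem hgK hg'K) hNN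
    have t1 : τ i = j := h.dd_inj ((hτ i).symm.trans m1)
    have t2 : τ j = l := h.dd_inj ((hτ j).symm.trans m2)
    have t3 : τ l = i := h.dd_inj ((hτ l).symm.trans m3)
    have hall : ∀ s : Fin 3, s = i ∨ s = j ∨ s = l := by
      intro s
      by_cases s1 : s = i
      · exact Or.inl s1
      by_cases s2 : s = j
      · exact Or.inr (Or.inl s2)
      · exact Or.inr (Or.inr (third_eq hij.symm hil.symm hjl s1 s2))
    have h3 : ∀ s, τ (τ (τ s)) = s := by
      intro s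
      rcases hall s with rfl | rfl | rfl
      · rw [t1, t2, t3]
      · rw [t2, t3, t1]
      · rw [t3, t1, t2]
    have h4 := h.cen_of_three hτ h3 hn'
    rw [h.mem_cen_iff] at h4
    exact hij (h.dd_inj ((h4 i).symm.trans m1))

end XT

/-- the configuration -/
structure Cf {a b : G} (h : Ln a b) (W : Fin 3 → Subgroup G) (T : Subgroup G) : Prop where
  bt : XT h W
  char2 : IsCharacteristicTwoType G
  Tp : IsPGroup 2 T
  TN : T ≤ normalizer (ln h : Set G)
  Ta : T ≤ centralizer ({a} : Set G)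
  syl : ¬ 2 ∣ T.relIndex (normalizer (ln h : Set G))
  dec : ∀ z ∈ zc T, ∃ v ∈ ln h, ∃ c, (∀ y ∈ XW W, y * c = c * y) ∧ (∀ t ∈ T, t * c = c * t) ∧
    z = v * c
  zt : ∀ t ∈ T, ∀ c ∈ T, c * c = 1 → (∀ s ∈ T, s ∈ centralizer (ln h : Set G) → s * c = c * s) →
    t * c * t⁻¹ = c ∨ t * c * t⁻¹ = c * a

theorem mem_sup_nrm {A B : Subgroup G} (h : A ≤ normalizer (B : Set G)) {x : G} (hx : x ∈ A ⊔ B) :
    ∃ a ∈ A, ∃ b ∈ B, a * b = x := by
  have h1 : x ∈ ((A ⊔ B : Subgroup G) : Set G) := hx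
  rw [coe_mul_of_left_le_normalizer_right A B h] at h1
  exact Set.mem_mul.mp h1

/-- `T⟨w⟩` is a 2-group -/
theorem sup_zp [Finite G] {T : Subgroup G} (hT : IsPGroup 2 T) {w : G} (hw : w ∈ normalizer (T : Set G))
    (h2 : w * w ∈ T) : IsPGroup 2 (T ⊔ zpowers w : Subgroup G) := by
  obtain ⟨n, hn⟩ := hT ⟨w * w, h2⟩
  have hn' : w ^ 2 ^ (n + 1) = 1 := by
    have h3 : (w * w) ^ 2 ^ n = 1 := by simpa using congrArg Subtype.val hn
    rw [pow_succ, mul_comm, pow_mul, pow_two]; exact h3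
  have h4 : IsPGroup 2 (zpowers w) := by
    rintro ⟨_, i, rfl⟩
    refine ⟨n + 1, Subtype.ext ?_⟩
    show (w ^ i) ^ 2 ^ (n + 1) = 1
    rw [← zpow_natCast, zpow_comm, zpow_natCast, hn', one_zpow]
  exact IsPGroup.to_sup_of_normal_left' hT h4 (by rw [zpowers_le]; exact hw)

/-- `O₂(N) ≤ O₂(H)` for `N` normal in `H` -/
theorem o2_le_o2 {N H : Subgroup G} (hN : N ≤ H) (hH : H ≤ normalizer (N : Set G)) : o2 N ≤ o2 H := by
  refine le_o2 ((o2_le N).trans hN) (o2_isPGroup N) fun g hg => ?_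
  rw [← BTwo.cj_eq_self_iff]
  have h1 : cj g N = N := BTwo.cj_eq_self_iff.2 (hH hg)
  show cj g (O2 N) = O2 N
  rw [BTwo.cj_O2, h1]

namespace Cf

variable {a b : G} {h : Ln a b} {W : Fin 3 → Subgroup G} {T : Subgroup G} (C : Cf h W T)
include C

theorem mem_L {v : G} (hv : v ∈ ln h) : v = 1 ∨ v = a ∨ v = b ∨ v = a * b := by
  rcases hv with e | ⟨i, e⟩
  · exact Or.inl e
  · fin_cases i
    · exact Or.inr (Or.inl e)
    · exact Or.inr (Or.inr (Or.inl e))
    · exact Or.inr (Or.inr (Or.inr e))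

theorem aL : a ∈ ln h := h.dd_mem 0
theorem bL : b ∈ ln h := h.dd_mem 1
theorem abL : a * b ∈ ln h := h.dd_mem 2

theorem sqL {v : G} (hv : v ∈ ln h) : v * v = 1 := C.bt.V_sq hv

theorem commL {v w : G} (hv : v ∈ ln h) (hw : w ∈ ln h) : v * w = w * v := C.bt.V_comm hv hw

/-- two commuting involutions -/
theorem mem_cen_L {g : G} (h1 : g * a = a * g) (h2 : g * b = b * g) : g ∈ centralizer (ln h : Set G) := by
  rw [mem_centralizer_iff]
  intro v hv
  rcases C.mem_L hv with rfl | rfl | rfl | rfl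
  · rw [one_mul, mul_one]
  · exact h1.symm
  · exact h2.symm
  · calc a * b * g = a * (b * g) := by group
      _ = a * g * b := by rw [← h2]; group
      _ = g * (a * b) := by rw [← h1]; group

variable [Finite G]

theorem mem_N {g : G} (h1 : g * a * g⁻¹ ∈ ln h) (h2 : g * b * g⁻¹ ∈ ln h) : g ∈ normalizer (ln h : Set G) := by
  refine BTwo.mem_normalizer_of_conj fun v hv => ?_
  rcases C.mem_L hv with rfl | rfl | rfl | rfl
  · have e : g * 1 * g⁻¹ = 1 := by group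
    rw [e]; exact one_mem _
  · exact h1
  · exact h2
  · have e : g * (a * b) * g⁻¹ = g * a * g⁻¹ * (g * b * g⁻¹) := by group
    rw [e]; exact mul_mem h1 h2

/-- `T` is a maximal 2-subgroup of `N(L)` -/
theorem max {R : Subgroup G} (hR : IsPGroup 2 R) (hTR : T ≤ R) (hRN : R ≤ normalizer (ln h : Set G)) : R ≤ T := by
  have h1 := HT.card_dvd_card C.TN C.syl hR hRN
  exact (eq_of_le_of_card_ge hTR (Nat.le_of_dvd Nat.card_pos h1)).symm.le

theorem not_mem_N {w : G} (hw : w ∈ normalizer (T : Set G)) (hw2 : w * w ∈ T) (hwT : w ∉ T) :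
    w ∉ normalizer (ln h : Set G) := by
  intro hwN
  have h2 := C.max (sup_zp C.Tp hw hw2) le_sup_left (sup_le C.TN (by rw [zpowers_le]; exact hwN))
  exact hwT (h2 (mem_sup_right (mem_zpowers w)))

/-- `O₂(C(a)) ≤ T` -/
theorem Q_le : o2 (centralizer ({a} : Set G)) ≤ T := by
  have h1 : o2 (centralizer ({a} : Set G)) ≤ normalizer (ln h : Set G) := C.bt.Q_le_NV 0
  have h2 : IsPGroup 2 (T ⊔ o2 (centralizer ({a} : Set G)) : Subgroup G) :=
    IsPGroup.to_sup_of_normal_right' C.Tp (o2_isPGroup _) (C.Ta.trans (le_normalizer_o2 _))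
  exact le_sup_right.trans (C.max h2 le_sup_left (sup_le C.TN h1))

theorem L_le : ln h ≤ T := by
  have h1 : ln h ≤ o2 (centralizer ({a} : Set G)) := C.bt.VQ 0
  exact h1.trans C.Q_le

theorem comm_a {t : G} (ht : t ∈ T) : t * a = a * t := mem_centralizer_singleton_iff.1 (C.Ta ht)

/-- `W_i` swaps the other two points -/
theorem exists_W {i : Fin 3} {v w : G} (hv : v ∈ ln h) (hw : w ∈ ln h) (hvi : v ∉ pts a b i) (hwi : w ∉ pts a b i) :
    ∃ g ∈ W i, g * v * g⁻¹ = w := by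
  obtain ⟨j, hj⟩ : ∃ j, v = dd a b j := hv.resolve_left fun e => hvi (by rw [e]; exact one_mem _)
  obtain ⟨l, hl⟩ : ∃ j, w = dd a b j := hw.resolve_left fun e => hwi (by rw [e]; exact one_mem _)
  have hji : j ≠ i := by rintro rfl; exact hvi (by rw [hj]; exact mem_zpowers _)
  have hli : l ≠ i := by rintro rfl; exact hwi (by rw [hl]; exact mem_zpowers _)
  obtain ⟨g, hg, e⟩ := C.bt.sw i j l hji hli
  exact ⟨g, hg, by rw [hj, hl]; exact e⟩

theorem b_notin : b ∉ pts a b 0 := fun e => by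
  rcases h.mem_pts.1 e with e | e
  · exact h.b1 e
  · exact h.ne (show b = a from e).symm

theorem ab_notin : a * b ∉ pts a b 0 := fun e => by
  rcases h.mem_pts.1 e with e | e
  · exact h.ab1 e
  · exact h.a_ab (show a * b = a from e).symm

/-- an element of `T` swapping `b` and `ab` -/
theorem exists_t : ∃ t ∈ T, t * b * t⁻¹ = a * b := by
  obtain ⟨t, ht, e⟩ := C.exists_W (i := 0) C.bL C.abL C.b_notin C.ab_notin
  have h1 : W 0 ≤ o2 (centralizer ({a} : Set G)) := C.bt.W_le_Q 0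
  exact ⟨t, C.Q_le (h1 ht), e⟩

/-- `T` acts as `1` or as the swap -/
theorem act_T {t : G} (ht : t ∈ T) : t * b * t⁻¹ = b ∨ t * b * t⁻¹ = a * b := by
  rcases C.mem_L (BTwo.conj_mem_of_normalizer (C.TN ht) C.bL) with e | e | e | e
  · exact absurd (conj_eq_one_iff.1 e) h.b1
  · exfalso
    have h1 : t * a * t⁻¹ = a := by rw [C.comm_a ht, mul_inv_cancel_right]
    exact h.ne (mul_left_cancel (mul_right_cancel (h1.trans e.symm)))
  · exact Or.inl e
  · exact Or.inr e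

/-- `Ω₁Z(C_T(L)) = L (Ω₁Z(T) ∩ C(X))` -/
theorem dec0 {u : G} (hu : u ∈ T) (hu2 : u * u = 1)
    (huT : ∀ s ∈ T, s ∈ centralizer (ln h : Set G) → s * u = u * s) :
    ∃ l ∈ ln h, ∃ c ∈ zc T, (∀ y ∈ XW W, y * c = c * y) ∧ u = l * c := by
  obtain ⟨t, ht, et⟩ := C.exists_t
  -- an involution commuting with `T`
  have key : ∀ z ∈ T, z * z = 1 → (∀ s ∈ T, s * z = z * s) →
      ∃ l ∈ ln h, ∃ c ∈ zc T, (∀ y ∈ XW W, y * c = c * y) ∧ z = l * c := by
    intro z hz hz2 hzT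
    obtain ⟨v, hv, c, hc1, hc2, e⟩ := C.dec z (mem_zc.2 ⟨hz, hzT, by rw [pow_two]; exact hz2⟩)
    have hvT := C.L_le hv
    have ec : c = v⁻¹ * z := by rw [e]; group
    have hcT : c ∈ T := by rw [ec]; exact mul_mem (inv_mem hvT) hz
    have hcc : c * c = 1 := by
      have h1 : v⁻¹ * c = c * v⁻¹ := hc2 _ (inv_mem hvT)
      have h2 : v⁻¹ = v := inv_eq_of_mul_eq_one_left (C.sqL hv)
      calc c * c = v⁻¹ * z * c := by rw [← ec]
        _ = v⁻¹ * (v * c) * c := by rw [e]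
        _ = v⁻¹ * v⁻¹ * v * v * c * c := by rw [h2]; rw [C.sqL hv]; group
        _ = v⁻¹ * v⁻¹ * (v * c * (v * c)) := by
          rw [h2] at h1
          rw [show v * c * (v * c) = v * (c * v) * c by group, ← h1]; group
        _ = 1 := by rw [← e, hz2, mul_one, h2, C.sqL hv]
    exact ⟨v, hv, c, mem_zc.2 ⟨hcT, hc2, by rw [pow_two]; exact hcc⟩, hc1, e⟩
  -- an element of `T₀` or of `t T₀`
  have hall : ∀ z ∈ T, (∀ s ∈ T, s ∈ centralizer (ln h : Set G) → s * z = z * s) → t * z * t⁻¹ = z →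
      ∀ s ∈ T, s * z = z * s := by
    intro z _ hz0 hzt s hs
    rcases C.act_T hs with e | e
    · exact hz0 s hs (C.mem_cen_L (C.comm_a hs) (mul_inv_eq_iff_eq_mul.1 e))
    · have h1 : t⁻¹ * s ∈ T := mul_mem (inv_mem ht) hs
      have h2 : t⁻¹ * s * b * (t⁻¹ * s)⁻¹ = b := by
        calc t⁻¹ * s * b * (t⁻¹ * s)⁻¹ = t⁻¹ * (s * b * s⁻¹) * t := by group
          _ = t⁻¹ * (t * b * t⁻¹) * t := by rw [e, et]
          _ = b := by group
      have h3 := hz0 _ h1 (C.mem_cen_L (C.comm_a h1) (mul_inv_eq_iff_eq_mul.1 h2))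
      have h4 : t * z = z * t := mul_inv_eq_iff_eq_mul.1 hzt
      calc s * z = t * (t⁻¹ * s * z) := by group
        _ = t * z * (t⁻¹ * s) := by rw [h3]; group
        _ = z * s := by rw [h4]; group
  rcases C.zt t ht u hu hu2 huT with e | e
  · exact key u hu hu2 (hall u hu huT e)
  · -- `b u` commutes with `T`
    have hub : u * b = b * u := by
      have h1 := huT b (C.L_le C.bL) (C.bt.V_le_cen C.bL)
      exact h1.symm
    have hua : a * u = u * a := (C.comm_a hu).symm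
    have hbu : b * u ∈ T := mul_mem (C.L_le C.bL) hu
    have hbu2 : b * u * (b * u) = 1 := by
      calc b * u * (b * u) = b * (u * b) * u := by group
        _ = b * b * (u * u) := by rw [hub]; group
        _ = 1 := by rw [C.sqL C.bL, hu2, one_mul]
    have h1 : ∀ s ∈ T, s ∈ centralizer (ln h : Set G) → s * (b * u) = b * u * s := by
      intro s hs hsL
      have h2 := mem_centralizer_iff.1 hsL b C.bL
      rw [← mul_assoc, ← h2, mul_assoc, huT s hs hsL, mul_assoc]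
    have h2 : t * (b * u) * t⁻¹ = b * u := by
      calc t * (b * u) * t⁻¹ = (t * b * t⁻¹) * (t * u * t⁻¹) := by group
        _ = a * b * (u * a) := by rw [et, e]
        _ = a * (b * u) * a := by group
        _ = a * (u * b) * a := by rw [hub]
        _ = a * u * (b * a) := by group
        _ = u * a * (a * b) := by rw [hua, h.comm]
        _ = u * (a * a) * b := by group
        _ = b * u := by rw [h.aa, mul_one, hub]
    obtain ⟨l, hl, c, hc, hcX, e2⟩ := key _ hbu hbu2 (hall _ hbu h1 h2)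
    refine ⟨b * l, mul_mem C.bL hl, c, hc, hcX, ?_⟩
    calc u = b * b * u := by rw [h.bb, one_mul]
      _ = b * (b * u) := by group
      _ = b * l * c := by rw [e2]; group

/-- `a` is not in `C(X)` -/
theorem a_notin : ¬ ∀ y ∈ XW W, y * a = a * y := fun e =>
  h.a1 (C.bt.cen_VX C.aL (mem_centralizer_iff.2 fun y hy => e y hy))

/-- the common output of (A) and (B) -/
def Out (_ : Cf h W T) (w : G) : Prop := w ∈ normalizer (T : Set G) ∧ w ∉ T ∧ w * w ∈ T ∧ w * a * w⁻¹ = a ∧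
  ∃ k ∈ zc T, k ≠ 1 ∧ (∀ y ∈ XW W, y * k = k * y) ∧ (w * b * w⁻¹ = b * k ∨ w * b * w⁻¹ = a * b * k)

/-- **(3)** -/
theorem three {w : G} (hw : C.Out w) : ∃ k ∈ zc T, k ≠ 1 ∧ (∀ y ∈ XW W, y * k = k * y) ∧
    ∃ g, g * k = k * g ∧ g * a * g⁻¹ = a * k ∧ g * b * g⁻¹ = b * k := by
  -- wlog `b^w = b k`
  obtain ⟨w, hwN, hwT, hw2, hwa, k, hk, hk1, hkX, hwb⟩ : ∃ w ∈ normalizer (T : Set G), w ∉ T ∧ w * w ∈ T ∧
      w * a * w⁻¹ = a ∧ ∃ k ∈ zc T, k ≠ 1 ∧ (∀ y ∈ XW W, y * k = k * y) ∧ w * b * w⁻¹ = b * k := by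
    obtain ⟨hwN, hwT, hw2, hwa, k, hk, hk1, hkX, hwb | hwb⟩ := hw
    · exact ⟨w, hwN, hwT, hw2, hwa, k, hk, hk1, hkX, hwb⟩
    · obtain ⟨t, ht, et⟩ := C.exists_t
      have htN : t ∈ normalizer (T : Set G) := le_normalizer ht
      refine ⟨t * w, mul_mem htN hwN, fun e => hwT ?_, ?_, ?_, k, hk, hk1, hkX, ?_⟩
      · have := mul_mem (inv_mem ht) e
        rwa [inv_mul_cancel_left] at this
      · have h1 : w * t * w⁻¹ ∈ T := (mem_normalizer_iff.1 hwN t).1 ht
        have e : t * w * (t * w) = t * (w * t * w⁻¹) * (w * w) := by group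
        rw [e]; exact mul_mem (mul_mem ht h1) hw2
      · calc t * w * a * (t * w)⁻¹ = t * (w * a * w⁻¹) * t⁻¹ := by group
          _ = a := by rw [hwa, C.comm_a ht, mul_inv_cancel_right]
      · have h1 : t * k = k * t := (mem_zc.1 hk).2.1 t ht
        calc t * w * b * (t * w)⁻¹ = t * (w * b * w⁻¹) * t⁻¹ := by group
          _ = t * (a * b * k) * t⁻¹ := by rw [hwb]
          _ = (t * a) * b * (k * t⁻¹) := by group
          _ = (a * t) * b * (k * t⁻¹) := by rw [C.comm_a ht]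
          _ = a * (t * b * t⁻¹) * (t * k * t⁻¹) := by group
          _ = a * (a * b) * k := by rw [et, h1, mul_inv_cancel_right]
          _ = a * a * b * k := by group
          _ = b * k := by rw [h.aa, one_mul]
  have hkT := (mem_zc.1 hk).2.1
  have hkk : k * k = 1 := by rw [← pow_two]; exact (mem_zc.1 hk).2.2
  have hkm : k ∈ T := (mem_zc.1 hk).1
  have hka : a * k = k * a := hkT a (C.L_le C.aL)
  have hkb : b * k = k * b := hkT b (C.L_le C.bL)
  have hk' : w * k * w⁻¹ ∈ T := (mem_normalizer_iff.1 hwN k).1 hkm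
  -- `k^w`
  have hkw : w * k * w⁻¹ = k ∨ w * k * w⁻¹ = k * a := by
    have h1 : w * w * b * (w * w)⁻¹ = b * (k * (w * k * w⁻¹)) := by
      calc w * w * b * (w * w)⁻¹ = w * (w * b * w⁻¹) * w⁻¹ := by group
        _ = w * (b * k) * w⁻¹ := by rw [hwb]
        _ = (w * b * w⁻¹) * (w * k * w⁻¹) := by group
        _ = _ := by rw [hwb]; group
    rcases C.act_T hw2 with e | e
    · left
      rw [h1] at e
      have e1 : k * (w * k * w⁻¹) = 1 := mul_left_cancel (e.trans (mul_one b).symm)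
      calc w * k * w⁻¹ = k * k * (w * k * w⁻¹) := by rw [hkk, one_mul]
        _ = k * (k * (w * k * w⁻¹)) := by group
        _ = k := by rw [e1, mul_one]
    · right
      rw [h1, h.comm] at e
      have e1 : k * (w * k * w⁻¹) = a := mul_left_cancel e
      calc w * k * w⁻¹ = k * k * (w * k * w⁻¹) := by rw [hkk, one_mul]
        _ = k * (k * (w * k * w⁻¹)) := by group
        _ = k * a := by rw [e1]
  -- the transposition `a ↔ b`
  obtain ⟨y, hy, ya, yb⟩ : ∃ y ∈ XW W, y * a * y⁻¹ = b ∧ y * b * y⁻¹ = a := by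
    obtain ⟨y, hy, e1, e2⟩ := C.bt.trans_X (i := 0) (j := 1) (k := 1) (l := 0) (by decide) (by decide)
    exact ⟨y, hy, e1, e2⟩
  have hyk := hkX y hy
  have hyk' : y * k * y⁻¹ = k := by rw [hyk, mul_inv_cancel_right]
  rcases hkw with hkw | hkw
  · -- `k^w = k`
    have e1 : w⁻¹ * k * w = k := by
      calc w⁻¹ * k * w = w⁻¹ * (w * k * w⁻¹) * w := by rw [hkw]
        _ = k := by group
    have e2 : w⁻¹ * b * w = b * k := by
      calc w⁻¹ * b * w = w⁻¹ * (b * k) * w * (w⁻¹ * k * w)⁻¹ := by group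
        _ = w⁻¹ * (w * b * w⁻¹) * w * k⁻¹ := by rw [hwb, e1]
        _ = b * k⁻¹ := by group
        _ = b * k := by rw [inv_eq_of_mul_eq_one_left hkk]
    have e3 : w⁻¹ * a * w = a := by
      calc w⁻¹ * a * w = w⁻¹ * (w * a * w⁻¹) * w := by rw [hwa]
        _ = a := by group
    refine ⟨k, hk, hk1, hkX, y * (w * y * w⁻¹), ?_, ?_, ?_⟩
    · have f1 : w * y * w⁻¹ * k = k * (w * y * w⁻¹) := by
        calc w * y * w⁻¹ * k = w * (y * (w⁻¹ * k * w)) * w⁻¹ := by group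
          _ = w * (k * y) * w⁻¹ := by rw [e1, hyk]
          _ = (w * k * w⁻¹) * (w * y * w⁻¹) := by group
          _ = _ := by rw [hkw]
      rw [mul_assoc, f1, ← mul_assoc, hyk, mul_assoc]
    · calc y * (w * y * w⁻¹) * a * (y * (w * y * w⁻¹))⁻¹
          = y * (w * (y * (w⁻¹ * a * w) * y⁻¹) * w⁻¹) * y⁻¹ := by group
        _ = y * (b * k) * y⁻¹ := by rw [e3, ya, hwb]
        _ = (y * b * y⁻¹) * (y * k * y⁻¹) := by group
        _ = a * k := by rw [yb, hyk']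
    · calc y * (w * y * w⁻¹) * b * (y * (w * y * w⁻¹))⁻¹
          = y * (w * (y * (w⁻¹ * b * w) * y⁻¹) * w⁻¹) * y⁻¹ := by group
        _ = y * (w * ((y * b * y⁻¹) * (y * k * y⁻¹)) * w⁻¹) * y⁻¹ := by rw [e2]; group
        _ = y * ((w * a * w⁻¹) * (w * k * w⁻¹)) * y⁻¹ := by rw [yb, hyk']; group
        _ = (y * a * y⁻¹) * (y * k * y⁻¹) := by rw [hwa, hkw]; group
        _ = b * k := by rw [ya, hyk']
  · -- `k^w = k a`: `T ⟨w⟩` normalises a conjugate of `L`
    exfalso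
    have e3 : w⁻¹ * a * w = a := by
      calc w⁻¹ * a * w = w⁻¹ * (w * a * w⁻¹) * w := by rw [hwa]
        _ = a := by group
    have e1 : w⁻¹ * k * w = k * a := by
      calc w⁻¹ * k * w = w⁻¹ * (k * a) * w * (w⁻¹ * a * w)⁻¹ := by group
        _ = w⁻¹ * (w * k * w⁻¹) * w * a⁻¹ := by rw [hkw, e3]
        _ = k * a⁻¹ := by group
        _ = k * a := by rw [inv_eq_of_mul_eq_one_left h.aa]
    have e2 : w⁻¹ * b * w = b * (k * a) := by
      have f : (k * a)⁻¹ = k * a := inv_eq_of_mul_eq_one_left (by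
        calc k * a * (k * a) = k * (a * k) * a := by group
          _ = k * k * (a * a) := by rw [hka]; group
          _ = 1 := by rw [hkk, h.aa, mul_one])
      calc w⁻¹ * b * w = w⁻¹ * (b * k) * w * (w⁻¹ * k * w)⁻¹ := by group
        _ = w⁻¹ * (w * b * w⁻¹) * w * (k * a)⁻¹ := by rw [hwb, e1]
        _ = b * (k * a) := by rw [f]; group
    obtain ⟨d, hd⟩ : ∃ d, d = y * (w * y * w⁻¹) := ⟨_, rfl⟩
    have da : d * a * d⁻¹ = a * k := by
      rw [hd]
      calc y * (w * y * w⁻¹) * a * (y * (w * y * w⁻¹))⁻¹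
          = y * (w * (y * (w⁻¹ * a * w) * y⁻¹) * w⁻¹) * y⁻¹ := by group
        _ = y * (b * k) * y⁻¹ := by rw [e3, ya, hwb]
        _ = (y * b * y⁻¹) * (y * k * y⁻¹) := by group
        _ = a * k := by rw [yb, hyk']
    have db : d * b * d⁻¹ = a := by
      rw [hd]
      calc y * (w * y * w⁻¹) * b * (y * (w * y * w⁻¹))⁻¹
          = y * (w * (y * (w⁻¹ * b * w) * y⁻¹) * w⁻¹) * y⁻¹ := by group
        _ = y * (w * ((y * b * y⁻¹) * (y * k * y⁻¹) * (y * a * y⁻¹)) * w⁻¹) * y⁻¹ := by rw [e2]; group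
        _ = y * ((w * a * w⁻¹) * (w * k * w⁻¹) * (w * b * w⁻¹)) * y⁻¹ := by rw [yb, hyk', ya]; group
        _ = y * (a * (k * a) * (b * k)) * y⁻¹ := by rw [hwa, hkw, hwb]
        _ = y * (a * (a * k) * (k * b)) * y⁻¹ := by rw [← hka, hkb]
        _ = y * ((a * a) * (k * k) * b) * y⁻¹ := by group
        _ = y * b * y⁻¹ := by rw [h.aa, hkk, one_mul, one_mul]
        _ = a := yb
    -- `R = T ⟨w⟩`
    have hR := sup_zp C.Tp hwN hw2
    have hRd : cj d⁻¹ (T ⊔ zpowers w) ≤ normalizer (ln h : Set G) := by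
      rintro _ ⟨r, hr, rfl⟩
      change d⁻¹ * r * d⁻¹⁻¹ ∈ _
      have hr1 : (r * a * r⁻¹ = a) ∧ (r * k * r⁻¹ = k ∨ r * k * r⁻¹ = k * a) := by
        let H : Subgroup G :=
          { carrier := {r | r * a * r⁻¹ = a ∧ (r * k * r⁻¹ = k ∨ r * k * r⁻¹ = k * a)}
            one_mem' := ⟨by group, Or.inl (by group)⟩
            mul_mem' := by
              rintro r s ⟨hr1, hr2⟩ ⟨hs1, hs2⟩
              have f1 : r * s * a * (r * s)⁻¹ = a := by
                calc r * s * a * (r * s)⁻¹ = r * (s * a * s⁻¹) * r⁻¹ := by group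
                  _ = a := by rw [hs1, hr1]
              refine ⟨f1, ?_⟩
              have f2 : r * s * k * (r * s)⁻¹ = r * (s * k * s⁻¹) * r⁻¹ := by group
              rw [f2]
              rcases hs2 with e | e
              · rw [e]; exact hr2
              · have f3 : r * (k * a) * r⁻¹ = r * k * r⁻¹ * (r * a * r⁻¹) := by group
                rw [e, f3, hr1]
                rcases hr2 with e | e
                · rw [e]; exact Or.inr rfl
                · rw [e, mul_assoc, h.aa, mul_one]; exact Or.inl rfl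
            inv_mem' := by
              rintro r ⟨hr1, hr2⟩
              have f1 : r⁻¹ * a * r⁻¹⁻¹ = a := by
                calc r⁻¹ * a * r⁻¹⁻¹ = r⁻¹ * (r * a * r⁻¹) * r := by rw [hr1]; group
                  _ = a := by group
              refine ⟨f1, ?_⟩
              rcases hr2 with e | e
              · left
                calc r⁻¹ * k * r⁻¹⁻¹ = r⁻¹ * (r * k * r⁻¹) * r := by rw [e]; group
                  _ = k := by group
              · right
                have f4 : r⁻¹ * (k * a) * r⁻¹⁻¹ = k := by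
                  calc r⁻¹ * (k * a) * r⁻¹⁻¹ = r⁻¹ * (r * k * r⁻¹) * r := by rw [e]; group
                    _ = k := by group
                calc r⁻¹ * k * r⁻¹⁻¹ = r⁻¹ * (k * a) * r⁻¹⁻¹ * (r⁻¹ * a * r⁻¹⁻¹)⁻¹ := by group
                  _ = k * a⁻¹ := by rw [f4, f1]
                  _ = k * a := by rw [inv_eq_of_mul_eq_one_left h.aa] }
        have hle : T ⊔ zpowers w ≤ H := by
          refine sup_le (fun t ht => ⟨?_, Or.inl ?_⟩) ?_
          · rw [C.comm_a ht, mul_inv_cancel_right]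
          · rw [hkT t ht, mul_inv_cancel_right]
          · rw [zpowers_le]; exact ⟨hwa, Or.inr hkw⟩
        exact hle hr
      have db' : d⁻¹ * a * d = b := by rw [← db]; group
      have dk' : d⁻¹ * k * d = a * b := by
        have : k = a * (a * k) := by rw [← mul_assoc, h.aa, one_mul]
        calc d⁻¹ * k * d = d⁻¹ * (a * (a * k)) * d := by rw [← this]
          _ = (d⁻¹ * a * d) * (d⁻¹ * (a * k) * d) := by group
          _ = b * (d⁻¹ * (d * a * d⁻¹) * d) := by rw [db', da]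
          _ = b * a := by group
          _ = a * b := h.comm.symm
      have dka : d⁻¹ * (k * a) * d = a := by
        calc d⁻¹ * (k * a) * d = (d⁻¹ * k * d) * (d⁻¹ * a * d) := by group
          _ = a * b * b := by rw [dk', db']
          _ = a := by rw [mul_assoc, h.bb, mul_one]
      have dak : d⁻¹ * (a * k) * d = a := by rw [hka]; exact dka
      -- `a = (a k)^{d⁻¹}`, `b = a^{d⁻¹}`
      refine C.mem_N ?_ ?_
      · have f : d⁻¹ * r * d⁻¹⁻¹ * a * (d⁻¹ * r * d⁻¹⁻¹)⁻¹ = d⁻¹ * ((r * a * r⁻¹) * (r * k * r⁻¹)) * d := by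
          calc d⁻¹ * r * d⁻¹⁻¹ * a * (d⁻¹ * r * d⁻¹⁻¹)⁻¹ = d⁻¹ * (r * (d * a * d⁻¹) * r⁻¹) * d := by group
            _ = _ := by rw [da]; group
        rw [f, hr1.1]
        rcases hr1.2 with e | e
        · rw [e, dak]; exact C.aL
        · rw [e]
          have f2 : d⁻¹ * (a * (k * a)) * d = (d⁻¹ * a * d) * (d⁻¹ * (k * a) * d) := by group
          rw [f2, db', dka, ← h.comm]; exact C.abL
      · have f : d⁻¹ * r * d⁻¹⁻¹ * b * (d⁻¹ * r * d⁻¹⁻¹)⁻¹ = d⁻¹ * (r * a * r⁻¹) * d := by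
          calc d⁻¹ * r * d⁻¹⁻¹ * b * (d⁻¹ * r * d⁻¹⁻¹)⁻¹ = d⁻¹ * (r * (d * b * d⁻¹) * r⁻¹) * d := by group
            _ = _ := by rw [db]
        rw [f, hr1.1, db']; exact C.bL
    have hRp : IsPGroup 2 (cj d⁻¹ (T ⊔ zpowers w) : Subgroup G) := hR.map _
    have h2 := Nat.le_of_dvd Nat.card_pos (HT.card_dvd_card C.TN C.syl hRp hRd)
    rw [BTwo.card_cj] at h2
    have h3 : T = T ⊔ zpowers w := eq_of_le_of_card_ge le_sup_left h2
    exact hwT (h3.symm.le (mem_sup_right (mem_zpowers w)))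

/-- `O₂(C(x)) ∩ N(L)` centralises `L`, for `x ∈ C(X)` -/
theorem cen_O {x : G} (hxX : ∀ y ∈ XW W, y * x = x * y) {g : G}
    (hg : g ∈ o2 (centralizer ({x} : Set G))) (hgN : g ∈ normalizer (ln h : Set G)) :
    g ∈ centralizer (ln h : Set G) := by
  refine C.bt.cen_of (K := o2 (centralizer ({x} : Set G)))
    (fun y hy => le_normalizer_o2 _ (mem_centralizer_singleton_iff.2 (hxX y hy))) (fun g hg _ => ?_) hg hgN
  obtain ⟨n, e⟩ := (o2_isPGroup (centralizer ({x} : Set G))) ⟨g, hg⟩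
  refine ⟨n, ?_⟩
  have e1 : g ^ 2 ^ n = 1 := by simpa using congrArg Subtype.val e
  rw [e1]; exact one_mem _

/-- **(B)** -/
theorem caseB {x : G} (hTx : ∀ t ∈ T, t * x = x * t) (hxX : ∀ y ∈ XW W, y * x = x * y)
    (hO : ¬ o2 (centralizer ({x} : Set G)) ≤ T) : ∃ w, C.Out w := by
  obtain ⟨O, hOe⟩ : ∃ O, O = o2 (centralizer ({x} : Set G)) := ⟨_, rfl⟩
  rw [← hOe] at hO
  have hTO : T ≤ normalizer (O : Set G) := by
    rw [hOe]
    exact fun t ht => le_normalizer_o2 _ (mem_centralizer_singleton_iff.2 (hTx t ht))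
  have hOp : IsPGroup 2 O := by rw [hOe]; exact o2_isPGroup _
  have hp : IsPGroup 2 (T ⊔ O : Subgroup G) := IsPGroup.to_sup_of_normal_right' C.Tp hOp hTO
  have hlt : T < T ⊔ O := lt_of_le_of_ne le_sup_left fun e => hO (le_sup_right.trans e.symm.le)
  obtain ⟨g, hg, hgN, hgT, hg2⟩ := MinSimple.Choice97.exists_normalizing hp hlt
  obtain ⟨s, hs, w, hw, rfl⟩ := mem_sup_nrm hTO hg
  have hsN : s ∈ normalizer (T : Set G) := le_normalizer hs
  have hwN : w ∈ normalizer (T : Set G) := by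
    have := mul_mem (inv_mem hsN) hgN
    rwa [inv_mul_cancel_left] at this
  have hwT : w ∉ T := fun e => hgT (mul_mem hs e)
  have hw2 : w * w ∈ T := by
    have h1 : w * s * w⁻¹ ∈ T := (mem_normalizer_iff.1 hwN s).1 hs
    have h2 : s * (w * s * w⁻¹) * (w * w) ∈ T := by
      have e : s * (w * s * w⁻¹) * (w * w) = s * w * (s * w) := by group
      rw [e]; exact hg2
    have h3 := mul_mem (inv_mem (mul_mem hs h1)) h2
    rwa [inv_mul_cancel_left] at h3
  have hO0 : ∀ y ∈ O, y ∈ T → y ∈ centralizer (ln h : Set G) := fun y hy hyT =>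
    C.cen_O hxX (by rw [← hOe]; exact hy) (C.TN hyT)
  -- `[w, t] ∈ O ∩ T`
  have hcm : ∀ t ∈ T, w * t * w⁻¹ * t⁻¹ ∈ T ∧ w * t * w⁻¹ * t⁻¹ ∈ centralizer (ln h : Set G) := by
    intro t ht
    have h1 : w * t * w⁻¹ * t⁻¹ ∈ T := mul_mem ((mem_normalizer_iff.1 hwN t).1 ht) (inv_mem ht)
    refine ⟨h1, hO0 _ ?_ h1⟩
    have e : w * t * w⁻¹ * t⁻¹ = w * (t * w⁻¹ * t⁻¹) := by group
    rw [e]
    exact mul_mem hw (BTwo.conj_mem_of_normalizer (hTO ht) (inv_mem hw))
  have hwiN := inv_mem hwN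
  have hcm' : ∀ t ∈ T, t ∈ centralizer (ln h : Set G) → w⁻¹ * t * w ∈ T ∧
      w⁻¹ * t * w ∈ centralizer (ln h : Set G) := by
    intro t ht htL
    have h0 : w⁻¹ * t * w ∈ T := by
      have := (mem_normalizer_iff.1 hwiN t).1 ht
      rwa [inv_inv] at this
    refine ⟨h0, ?_⟩
    have h1 := (hcm _ h0).2
    have e : w⁻¹ * t * w = (w * (w⁻¹ * t * w) * w⁻¹ * (w⁻¹ * t * w)⁻¹)⁻¹ * t := by group
    rw [e]
    exact mul_mem (inv_mem h1) htL
  -- the conjugates of `L`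
  have hLw : ∀ v ∈ ln h, w * v * w⁻¹ ∈ T ∧ w * v * w⁻¹ * (w * v * w⁻¹) = 1 ∧
      ∀ s ∈ T, s ∈ centralizer (ln h : Set G) → s * (w * v * w⁻¹) = w * v * w⁻¹ * s := by
    intro v hv
    refine ⟨(mem_normalizer_iff.1 hwN v).1 (C.L_le hv), ?_, fun s hs hsL => ?_⟩
    · calc w * v * w⁻¹ * (w * v * w⁻¹) = w * (v * v) * w⁻¹ := by group
        _ = 1 := by rw [C.sqL hv]; group
    · have h1 := mem_centralizer_iff.1 (hcm' s hs hsL).2 v hv
      calc s * (w * v * w⁻¹) = w * (w⁻¹ * s * w * v) * w⁻¹ := by group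
        _ = w * (v * (w⁻¹ * s * w)) * w⁻¹ := by rw [h1]
        _ = w * v * w⁻¹ * s := by group
  obtain ⟨u, hu⟩ : ∃ u, u = w * b * w⁻¹ := ⟨_, rfl⟩
  obtain ⟨huT, hu2, hu0⟩ := hLw b C.bL
  rw [← hu] at huT hu2 hu0
  obtain ⟨t, ht, et⟩ := C.exists_t
  -- `a^w = a`
  have hwa : w * a * w⁻¹ = a := by
    obtain ⟨y, hy⟩ : ∃ y, y = w * t * w⁻¹ * t⁻¹ := ⟨_, rfl⟩
    obtain ⟨hyT, hyL⟩ := hcm t ht
    rw [← hy] at hyT hyL
    have e1 : w * (a * b) * w⁻¹ = y * (t * u * t⁻¹) * y⁻¹ := by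
      calc w * (a * b) * w⁻¹ = w * (t * b * t⁻¹) * w⁻¹ := by rw [et]
        _ = _ := by rw [hy, hu]; group
    have e2 : w * (a * b) * w⁻¹ = w * a * w⁻¹ * u := by rw [hu]; group
    have hyu : y * u = u * y := hu0 y hyT hyL
    have hya : y * a = a * y := C.comm_a hyT
    rcases C.zt t ht u huT hu2 hu0 with e | e
    · exfalso
      have e3 : y * u * y⁻¹ = u := by rw [hyu, mul_inv_cancel_right]
      rw [e, e3, e2] at e1
      have e4 : w * a * w⁻¹ = 1 := mul_right_cancel (e1.trans (one_mul u).symm)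
      exact h.a1 (conj_eq_one_iff.1 e4)
    · have e3 : y * (u * a) * y⁻¹ = u * a := by
        calc y * (u * a) * y⁻¹ = (y * u) * a * y⁻¹ := by group
          _ = u * (y * a) * y⁻¹ := by rw [hyu]; group
          _ = u * a := by rw [hya]; group
      rw [e, e3, e2, ← C.comm_a huT |>.symm] at e1
      exact mul_right_cancel e1
  refine ⟨w, hwN, hwT, hw2, hwa, ?_⟩
  obtain ⟨l, hl, c, hc, hcX, e⟩ := C.dec0 huT hu2 hu0
  have hcT := (mem_zc.1 hc).2.1
  have key : l = b ∨ l = a * b := by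
    have hno : (∀ s ∈ T, s * u = u * s) → False := by
      intro hall
      have h1 : w * t * w⁻¹ ∈ T := (mem_normalizer_iff.1 hwN t).1 ht
      have h2 := hall _ h1
      have h3 : t * b = b * t := by
        calc t * b = w⁻¹ * (w * t * w⁻¹ * u) * w := by rw [hu]; group
          _ = w⁻¹ * (u * (w * t * w⁻¹)) * w := by rw [h2]
          _ = b * t := by rw [hu]; group
      have h4 : b = a * b := by rw [← et, h3, mul_inv_cancel_right]
      exact h.b_ab h4
    rcases C.mem_L hl with e1 | e1 | e1 | e1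
    · exfalso; apply hno
      intro s hs
      rw [e, e1, one_mul]; exact hcT s hs
    · exfalso; apply hno
      intro s hs
      rw [e, e1, ← mul_assoc, C.comm_a hs, mul_assoc, hcT s hs, mul_assoc]
    · exact Or.inl e1
    · exact Or.inr e1
  refine ⟨c, hc, fun hc1 => ?_, hcX, ?_⟩
  · refine C.not_mem_N hwN hw2 hwT (C.mem_N (by rw [hwa]; exact C.aL) ?_)
    rw [← hu, e, hc1, mul_one]; exact hl
  · rw [← hu, e]
    rcases key with e1 | e1
    · left; rw [e1]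
    · right; rw [e1]


/-- `[T, L] ≤ ⟨a⟩` -/
theorem TL {t v : G} (ht : t ∈ T) (hv : v ∈ ln h) : t * v * t⁻¹ = v ∨ t * v * t⁻¹ = a * v := by
  have h1 : t * a * t⁻¹ = a := by rw [C.comm_a ht, mul_inv_cancel_right]
  rcases C.mem_L hv with rfl | rfl | rfl | rfl
  · left; group
  · exact Or.inl h1
  · exact C.act_T ht
  · have h2 : t * (a * b) * t⁻¹ = t * a * t⁻¹ * (t * b * t⁻¹) := by group
    rw [h2, h1]
    rcases C.act_T ht with e | e
    · left; rw [e]
    · right; rw [e]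

/-- `O₂(C(r)) ∩ C(L) ≤ T` for every point `r` -/
theorem QC_le (j : Fin 3) {g : G} (hg : g ∈ Qd a b j) (hgL : g ∈ centralizer (ln h : Set G)) : g ∈ T := by
  have h1 : (Qd a b j ⊓ centralizer (ln h : Set G) : Subgroup G) ≤ o2 (centralizer (ln h : Set G)) := by
    refine le_o2 inf_le_right ((o2_isPGroup _).to_le (inf_le_left : _ ≤ Qd a b j)) fun y hy => ?_
    refine BTwo.mem_normalizer_of_conj fun z hz => ?_
    have hy1 : y ∈ centralizer ({dd a b j} : Set G) := C.bt.cen_le_C j hy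
    exact mem_inf.2 ⟨BTwo.conj_mem_of_normalizer (le_normalizer_o2 _ hy1) hz.1,
      mul_mem (mul_mem hy hz.2) (inv_mem hy)⟩
  have h2 : o2 (centralizer (ln h : Set G)) ≤ o2 (normalizer (ln h : Set G)) :=
    o2_le_o2 (centralizer_le_normalizer _) (BTwo.normalizer_le_normalizer_centralizer _)
  exact o2_le_of_sylow C.Tp C.syl (h2 (h1 (mem_inf.2 ⟨hg, hgL⟩)))

/-- **(A)** -/
theorem caseA {T' : Subgroup G} (hT' : IsPGroup 2 T') (hlt : T < T') (hTa' : T' ≤ centralizer ({a} : Set G))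
    {x : G} (hx : x ∈ zc T') (hx1 : x ≠ 1) (hxX : ∀ y ∈ XW W, y * x = x * y)
    (hO : o2 (centralizer ({x} : Set G)) ≤ T) : ∃ w, C.Out w := by
  obtain ⟨w, hwT', hwN, hwT, hw2⟩ := MinSimple.Choice97.exists_normalizing hT' hlt
  have hxT' := (mem_zc.1 hx).2.1
  have hx2 : x ^ 2 = 1 := (mem_zc.1 hx).2.2
  have hwa : w * a = a * w := mem_centralizer_singleton_iff.1 (hTa' hwT')
  have hwa' : w * a * w⁻¹ = a := by rw [hwa, mul_inv_cancel_right]
  have hwx : w * x = x * w := hxT' w hwT'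
  obtain ⟨O, hOe⟩ : ∃ O, O = o2 (centralizer ({x} : Set G)) := ⟨_, rfl⟩
  rw [← hOe] at hO
  have hxC : ∀ {g : G}, g * x = x * g → g ∈ normalizer (O : Set G) := fun {g} hg => by
    rw [hOe]; exact le_normalizer_o2 _ (mem_centralizer_singleton_iff.2 hg)
  have hOp : IsPGroup 2 O := by rw [hOe]; exact o2_isPGroup _
  have hOL : O ≤ centralizer (ln h : Set G) := fun g hg =>
    C.cen_O hxX (by rw [← hOe]; exact hg) (C.TN (hO hg))
  have hTx : ∀ t ∈ T, t * x = x * t := fun t ht => hxT' t (hlt.le ht)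
  have hLO : ln h ≤ O := by
    intro v hv
    rw [hOe]
    refine MinSimple.Basic.char2_centralizer C.char2 hx2 hx1 (mem_inf.2
      ⟨mem_centralizer_singleton_iff.2 (hTx v (C.L_le hv)), mem_centralizer_iff.2 fun g hg => ?_⟩)
    rw [← hOe] at hg
    exact (mem_centralizer_iff.1 (hOL hg) v hv).symm
  have hwO := hxC hwx
  have hV'O : ∀ v ∈ ln h, w * v * w⁻¹ ∈ O := fun v hv => BTwo.conj_mem_of_normalizer hwO (hLO hv)
  have hV'c : ∀ v ∈ ln h, ∀ g ∈ O, g * (w * v * w⁻¹) = w * v * w⁻¹ * g := by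
    intro v hv g hg
    have h1 : w⁻¹ * g * w ∈ O := by
      have := BTwo.conj_mem_of_normalizer (inv_mem hwO) hg
      rwa [inv_inv] at this
    have h2 := mem_centralizer_iff.1 (hOL h1) v hv
    calc g * (w * v * w⁻¹) = w * (w⁻¹ * g * w * v) * w⁻¹ := by group
      _ = w * (v * (w⁻¹ * g * w)) * w⁻¹ := by rw [h2]
      _ = w * v * w⁻¹ * g := by group
  -- `[T, V'] ≤ ⟨a⟩`
  have hTV : ∀ v ∈ ln h, ∀ t ∈ T, t * (w * v * w⁻¹) * t⁻¹ = w * v * w⁻¹ ∨
      t * (w * v * w⁻¹) * t⁻¹ = a * (w * v * w⁻¹) := by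
    intro v hv t ht
    have h1 : w⁻¹ * t * w ∈ T := by
      have := (mem_normalizer_iff.1 (inv_mem hwN) t).1 ht
      rwa [inv_inv] at this
    have h2 : t * (w * v * w⁻¹) * t⁻¹ = w * ((w⁻¹ * t * w) * v * (w⁻¹ * t * w)⁻¹) * w⁻¹ := by group
    rw [h2]
    rcases C.TL h1 hv with e | e
    · left; rw [e]
    · right
      rw [e]
      calc w * (a * v) * w⁻¹ = (w * a * w⁻¹) * (w * v * w⁻¹) := by group
        _ = _ := by rw [hwa']
  -- `x ∈ Z(Q_j)`
  have hxQ0 : x ∈ Qd a b 0 := by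
    exact MinSimple.Basic.char2_centralizer C.char2 (by rw [pow_two]; exact h.aa) h.a1 (mem_inf.2
      ⟨hTa' (mem_zc.1 hx).1, mem_centralizer_iff.2 fun g hg => hTx g (C.Q_le hg)⟩)
  have hxQ0c : ∀ g ∈ Qd a b 0, g * x = x * g := by
    intro g hg
    exact hTx g (C.Q_le hg)
  have hxQ : ∀ j, x ∈ Qd a b j ∧ ∀ g ∈ Qd a b j, g * x = x * g := by
    intro j
    obtain ⟨e, he, ej⟩ := C.bt.trans_X_one 0 j
    have hex : e * x * e⁻¹ = x := by rw [hxX e he, mul_inv_cancel_right]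
    have hQ : cj e (Qd a b 0) = Qd a b j := by
      show cj e (O2 (centralizer ({dd a b 0} : Set G))) = _
      rw [BTwo.cj_O2]
      show O2 _ = O2 _
      congr 1
      ext g
      rw [BTwo.mem_cj, mem_centralizer_singleton_iff, mem_centralizer_singleton_iff, ← ej]
      constructor
      · intro h1
        calc g * (e * dd a b 0 * e⁻¹) = e * (e⁻¹ * g * e * dd a b 0) * e⁻¹ := by group
          _ = e * (dd a b 0 * (e⁻¹ * g * e)) * e⁻¹ := by rw [h1]
          _ = e * dd a b 0 * e⁻¹ * g := by group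
      · intro h1
        calc e⁻¹ * g * e * dd a b 0 = e⁻¹ * (g * (e * dd a b 0 * e⁻¹)) * e := by group
          _ = e⁻¹ * (e * dd a b 0 * e⁻¹ * g) * e := by rw [h1]
          _ = dd a b 0 * (e⁻¹ * g * e) := by group
    refine ⟨?_, fun g hg => ?_⟩
    · rw [← hQ, ← hex]; exact BTwo.conj_mem_cj hxQ0
    · rw [← hQ] at hg
      obtain ⟨g', hg', rfl⟩ := hg
      change e * g' * e⁻¹ * x = x * (e * g' * e⁻¹)
      have h1 := hxQ0c g' hg'
      calc e * g' * e⁻¹ * x = e * g' * e⁻¹ * (e * x * e⁻¹) := by rw [hex]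
        _ = e * (g' * x) * e⁻¹ := by group
        _ = e * (x * g') * e⁻¹ := by rw [h1]
        _ = (e * x * e⁻¹) * (e * g' * e⁻¹) := by group
        _ = x * (e * g' * e⁻¹) := by rw [hex]
  -- `V' ≤ Q_j`
  have hVQ : ∀ j : Fin 3, j ≠ 0 → ∀ v ∈ ln h, w * v * w⁻¹ ∈ Qd a b j := by
    intro j hj
    obtain ⟨H, hH⟩ : ∃ H, H = centralizer ({dd a b j} : Set G) := ⟨_, rfl⟩
    have hHQ : H ≤ normalizer (Qd a b j : Set G) := by rw [hH]; exact le_normalizer_o2 _
    have hV'H : ∀ v ∈ ln h, w * v * w⁻¹ ∈ H := by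
      intro v hv
      rw [hH, mem_centralizer_singleton_iff]
      exact (hV'c v hv _ (hLO (h.dd_mem j))).symm
    have haQ : ∃ g ∈ Qd a b j, g * a ≠ a * g := by
      have h1 : (0 : Fin 3) ≠ j := Ne.symm hj
      obtain ⟨l, hl1, hl2⟩ : ∃ l : Fin 3, l ≠ j ∧ l ≠ 0 := by
        have : ∀ j : Fin 3, ∃ l : Fin 3, l ≠ j ∧ l ≠ 0 := by decide
        exact this j
      obtain ⟨g, hg, e⟩ := C.bt.sw j 0 l h1 hl1
      refine ⟨g, C.bt.W_le_Q j hg, fun e1 => hl2 ?_⟩
      have e2 : g * dd a b 0 * g⁻¹ = dd a b 0 := by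
        show g * a * g⁻¹ = a
        rw [e1, mul_inv_cancel_right]
      exact h.dd_inj (e.symm.trans e2)
    -- `V'` commutes with the `x^q`
    have hcom : ∀ v ∈ ln h, ∀ q ∈ H, (w * v * w⁻¹) * (q * x * q⁻¹) = q * x * q⁻¹ * (w * v * w⁻¹) := by
      intro v hv q hq
      obtain ⟨y, hy⟩ : ∃ y, y = q * x * q⁻¹ := ⟨_, rfl⟩
      obtain ⟨v', hv'⟩ : ∃ v', v' = w * v * w⁻¹ := ⟨_, rfl⟩
      rw [← hy, ← hv']
      have hyQ : y ∈ Qd a b j := by
        rw [hy]; exact BTwo.conj_mem_of_normalizer (hHQ hq) (hxQ j).1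
      have hyc : ∀ g ∈ Qd a b j, g * y = y * g := by
        intro g hg
        have h1 : q⁻¹ * g * q ∈ Qd a b j := by
          have := BTwo.conj_mem_of_normalizer (inv_mem (hHQ hq)) hg
          rwa [inv_inv] at this
        have h2 := (hxQ j).2 _ h1
        calc g * y = q * (q⁻¹ * g * q * x) * q⁻¹ := by rw [hy]; group
          _ = q * (x * (q⁻¹ * g * q)) * q⁻¹ := by rw [h2]
          _ = y * g := by rw [hy]; group
      have hyT : y ∈ T := C.QC_le j hyQ (mem_centralizer_iff.2 fun l hl => hyc l (C.bt.VQ j hl))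
      have hv'H : v' ∈ H := by rw [hv']; exact hV'H v hv
      rcases hTV v hv y hyT with e | e
      · rw [← hv'] at e
        exact (mul_inv_eq_iff_eq_mul.1 e).symm
      · exfalso
        rw [← hv'] at e
        have e1 : a = y * (v' * y⁻¹ * v'⁻¹) := by
          calc a = a * v' * v'⁻¹ := by group
            _ = y * v' * y⁻¹ * v'⁻¹ := by rw [e]
            _ = _ := by group
        obtain ⟨g, hg, hga⟩ := haQ
        apply hga
        have h3 : v'⁻¹ * g * v' ∈ Qd a b j := by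
          have := BTwo.conj_mem_of_normalizer (inv_mem (hHQ hv'H)) hg
          rwa [inv_inv] at this
        have h4 : v'⁻¹ * g * v' * y⁻¹ = y⁻¹ * (v'⁻¹ * g * v') :=
          ((show Commute _ y from hyc _ h3).inv_right).eq
        have h5 : g * (v' * y⁻¹ * v'⁻¹) = v' * y⁻¹ * v'⁻¹ * g := by
          calc g * (v' * y⁻¹ * v'⁻¹) = v' * (v'⁻¹ * g * v' * y⁻¹) * v'⁻¹ := by group
            _ = v' * (y⁻¹ * (v'⁻¹ * g * v')) * v'⁻¹ := by rw [h4]
            _ = _ := by group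
        have h6 : g * (y * (v' * y⁻¹ * v'⁻¹)) = y * (v' * y⁻¹ * v'⁻¹) * g := by
          rw [← mul_assoc, hyc g hg, mul_assoc, h5]
          group
        rwa [← e1] at h6
    -- the normal subgroup `N` of `H`
    let N : Subgroup G :=
      { carrier := {g | g ∈ H ∧ ∀ q ∈ H, g * (q * x * q⁻¹) = q * x * q⁻¹ * g}
        one_mem' := ⟨one_mem _, fun q _ => by rw [one_mul, mul_one]⟩
        mul_mem' := by
          rintro g g' ⟨hg, hg1⟩ ⟨hg', hg1'⟩
          refine ⟨mul_mem hg hg', fun q hq => ?_⟩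
          rw [mul_assoc, hg1' q hq, ← mul_assoc, hg1 q hq, mul_assoc]
        inv_mem' := by
          rintro g ⟨hg, hg1⟩
          exact ⟨inv_mem hg, fun q hq => ((show Commute g _ from hg1 q hq).inv_left).eq⟩ }
    have hNH : N ≤ H := fun g hg => hg.1
    have hHN : H ≤ normalizer (N : Set G) := by
      intro p hp
      refine BTwo.mem_normalizer_of_conj fun g hg => ⟨mul_mem (mul_mem hp hg.1) (inv_mem hp), fun q hq => ?_⟩
      have h1 := hg.2 (p⁻¹ * q) (mul_mem (inv_mem hp) hq)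
      calc p * g * p⁻¹ * (q * x * q⁻¹) = p * (g * (p⁻¹ * q * x * (p⁻¹ * q)⁻¹)) * p⁻¹ := by group
        _ = p * (p⁻¹ * q * x * (p⁻¹ * q)⁻¹ * g) * p⁻¹ := by rw [h1]
        _ = q * x * q⁻¹ * (p * g * p⁻¹) := by group
    have hNx : ∀ g ∈ N, g * x = x * g := by
      intro g hg
      have := hg.2 1 (one_mem _)
      rwa [one_mul, inv_one, mul_one] at this
    intro v hv
    have h1 : w * v * w⁻¹ ∈ N := ⟨hV'H v hv, fun q hq => hcom v hv q hq⟩
    have h2 : (O ⊓ N : Subgroup G) ≤ o2 N := by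
      refine le_o2 inf_le_right (hOp.to_le inf_le_left) fun g hg => ?_
      refine BTwo.mem_normalizer_of_conj fun z hz => mem_inf.2
        ⟨BTwo.conj_mem_of_normalizer (hxC (hNx g hg)) hz.1, mul_mem (mul_mem hg hz.2) (inv_mem hg)⟩
    have h3 := o2_le_o2 hNH hHN (h2 (mem_inf.2 ⟨hV'O v hv, h1⟩))
    rw [hH] at h3
    exact h3
  -- `u_j`
  obtain ⟨u, hu⟩ : ∃ u, u = w * b * w⁻¹ := ⟨_, rfl⟩
  have hLV : ∀ v ∈ ln h, ∀ l ∈ ln h, l * (w * v * w⁻¹) = w * v * w⁻¹ * l := fun v hv l hl =>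
    hV'c v hv l (hLO hl)
  have hul : ∀ l ∈ ln h, l * u = u * l := fun l hl => by rw [hu]; exact hLV b C.bL l hl
  have huu : u * u = 1 := by
    rw [hu]
    calc w * b * w⁻¹ * (w * b * w⁻¹) = w * (b * b) * w⁻¹ := by group
      _ = 1 := by rw [h.bb]; group
  have hua := hul a C.aL
  have hU : ∀ j : Fin 3, j ≠ 0 → ∃ u', (u' = u ∨ u' = u * a) ∧ ∀ g ∈ W j, g * u' = u' * g := by
    intro j hj
    obtain ⟨d, hd⟩ : ∃ d, d = dd a b j := ⟨_, rfl⟩
    have hdL : d ∈ ln h := by rw [hd]; exact h.dd_mem j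
    have hmemj : ∀ {z : G}, z ∈ pts a b j → z = 1 ∨ z = d := fun {z} hz => by
      rw [hd]; exact h.mem_pts.1 hz
    have hdd : d * d = 1 := C.sqL hdL
    have had : a * d = d * a := C.commL C.aL hdL
    have hanj : a ∉ pts a b j := fun e => by
      rcases h.mem_pts.1 e with e1 | e1
      · exact h.a1 e1
      · exact hj (h.dd_inj (i := 0) (j := j) e1).symm
    have had1 : a * d ∉ pts a b j := fun e => by
      have h1 : a * d * d ∈ pts a b j := mul_mem e (by rw [hd]; exact mem_zpowers _)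
      rw [mul_assoc, hdd, mul_one] at h1
      exact hanj h1
    obtain ⟨o, ho, eo⟩ := C.exists_W (i := j) C.aL (mul_mem C.aL hdL) hanj had1
    -- elements of `W_j ∩ C(a)`
    have hW0 : ∀ g ∈ W j, g * a = a * g → g * u = u * g := by
      intro g hg hga
      have hgQ := C.bt.W_le_Q j hg
      have hgL : g ∈ centralizer (ln h : Set G) := by
        have h1 : g * dd a b 0 * g⁻¹ = dd a b 0 := by
          show g * a * g⁻¹ = a
          rw [hga, mul_inv_cancel_right]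
        exact C.bt.mem_cen_Q (i := 0) (Ne.symm hj) hgQ h1
      have hgT := C.QC_le j hgQ hgL
      have h1 := C.bt.QW j _ (hVQ j hj b C.bL) g hg
      rw [← hu] at h1
      have h2 := hTV b C.bL g hgT
      rw [← hu] at h2
      rcases h2 with e | e
      · exact mul_inv_eq_iff_eq_mul.1 e
      · exfalso
        have e1 : u * g * u⁻¹ * g⁻¹ = a := by
          have e2 : (u * g * u⁻¹ * g⁻¹)⁻¹ = a := by
            calc (u * g * u⁻¹ * g⁻¹)⁻¹ = g * u * g⁻¹ * u⁻¹ := by group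
              _ = a := by rw [e]; group
          calc u * g * u⁻¹ * g⁻¹ = ((u * g * u⁻¹ * g⁻¹)⁻¹)⁻¹ := (inv_inv _).symm
            _ = a := by rw [e2]; exact inv_eq_of_mul_eq_one_left h.aa
        rw [e1] at h1
        exact hanj h1
    -- the element `o`
    obtain ⟨u', hu', hou⟩ : ∃ u', (u' = u ∨ u' = u * a) ∧ o * u' = u' * o := by
      have h1 := C.bt.QW j _ (hVQ j hj b C.bL) o ho
      rw [← hu] at h1
      rcases hmemj h1 with e | e
      · refine ⟨u, Or.inl rfl, ?_⟩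
        rw [mul_inv_eq_one, mul_inv_eq_iff_eq_mul] at e
        exact e.symm
      · refine ⟨u * a, Or.inr rfl, ?_⟩
        -- `o u o⁻¹ = u d`
        have e1 : o * u * o⁻¹ = u * d := by
          have hui : u⁻¹ = u := inv_eq_of_mul_eq_one_left huu
          have e2 : o * u⁻¹ * o⁻¹ = u⁻¹ * d := by rw [← e]; group
          rwa [hui] at e2
        have e3 : o * (u * a) * o⁻¹ = u * a := by
          calc o * (u * a) * o⁻¹ = (o * u * o⁻¹) * (o * a * o⁻¹) := by group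
            _ = u * d * (a * d) := by rw [e1, eo]
            _ = u * (d * a) * d := by group
            _ = u * a * (d * d) := by rw [← had]; group
            _ = u * a := by rw [hdd, mul_one]
        exact mul_inv_eq_iff_eq_mul.1 e3
    have hW1 : ∀ g ∈ W j, g * a = a * g → g * u' = u' * g := by
      intro g hg hga
      have h1 := hW0 g hg hga
      rcases hu' with e | e
      · rw [e]; exact h1
      · rw [e, ← mul_assoc, h1, mul_assoc, hga, mul_assoc]
    refine ⟨u', hu', fun g hg => ?_⟩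
    rcases hmemj (C.bt.QV j g (C.bt.W_le_Q j hg) a C.aL) with e | e
    · rw [mul_inv_eq_one, mul_inv_eq_iff_eq_mul] at e
      exact hW1 g hg e
    · have e1 : g * a * g⁻¹ = a * d := by
        rw [mul_inv_eq_iff_eq_mul] at e
        rw [e, had]
      have h1 : o⁻¹ * g ∈ W j := mul_mem (inv_mem ho) hg
      have h2 : o⁻¹ * g * a * (o⁻¹ * g)⁻¹ = a := by
        calc o⁻¹ * g * a * (o⁻¹ * g)⁻¹ = o⁻¹ * (g * a * g⁻¹) * o := by group
          _ = o⁻¹ * (o * a * o⁻¹) * o := by rw [e1, eo]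
          _ = a := by group
      have h3 := hW1 _ h1 (mul_inv_eq_iff_eq_mul.1 h2)
      calc g * u' = o * (o⁻¹ * g * u') := by group
        _ = o * u' * (o⁻¹ * g) := by rw [h3]; group
        _ = u' * g := by rw [hou]; group
  obtain ⟨u₁, hu₁, h1W⟩ := hU 1 (by decide)
  obtain ⟨u₂, hu₂, h2W⟩ := hU 2 (by decide)
  -- `u₁ ≠ u₂`
  have hne : u₁ ≠ u₂ := by
    intro e
    have hX : u₁ ∈ centralizer (XW W : Set G) :=
      C.bt.mem_cen_X (i := 1) (j := 2) (by decide) (mem_centralizer_iff.2 h1W)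
        (mem_centralizer_iff.2 (by rw [e]; exact h2W))
    obtain ⟨g, hg, eg⟩ := C.exists_W (i := 0) C.bL C.abL C.b_notin C.ab_notin
    have h1 : w * g * w⁻¹ ∈ W 0 := C.bt.cjW w 0 0 hwa' g hg
    have h2 := mem_centralizer_iff.1 hX _ (C.bt.W_le_X 0 h1)
    have hga : g * a = a * g := C.bt.Q_comm (C.bt.W_le_Q 0 hg)
    have h3 : (w * g * w⁻¹) * u * (w * g * w⁻¹)⁻¹ = u * a := by
      calc (w * g * w⁻¹) * u * (w * g * w⁻¹)⁻¹ = w * (g * b * g⁻¹) * w⁻¹ := by rw [hu]; group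
        _ = (w * a * w⁻¹) * (w * b * w⁻¹) := by rw [eg]; group
        _ = a * u := by rw [hwa', hu]
        _ = u * a := hua
    have h4 : (w * g * w⁻¹) * a * (w * g * w⁻¹)⁻¹ = a := by
      calc (w * g * w⁻¹) * a * (w * g * w⁻¹)⁻¹ = w * (g * (w⁻¹ * (a * w)) * g⁻¹) * w⁻¹ := by group
        _ = w * (g * a * g⁻¹) * w⁻¹ := by rw [← hwa]; group
        _ = w * a * w⁻¹ := by rw [hga]; group
        _ = a := hwa'
    have h5 : (w * g * w⁻¹) * u₁ * (w * g * w⁻¹)⁻¹ = u₁ := by rw [h2, mul_inv_cancel_right]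
    have h6 : (w * g * w⁻¹) * u₁ * (w * g * w⁻¹)⁻¹ = u₁ * a := by
      rcases hu₁ with e | e
      · rw [e]; exact h3
      · rw [e]
        calc (w * g * w⁻¹) * (u * a) * (w * g * w⁻¹)⁻¹
            = ((w * g * w⁻¹) * u * (w * g * w⁻¹)⁻¹) * ((w * g * w⁻¹) * a * (w * g * w⁻¹)⁻¹) := by group
          _ = u * a * a := by rw [h3, h4]
    have h7 : a = 1 := by
      have := h5.symm.trans h6
      exact (mul_left_cancel ((mul_one u₁).trans this)).symm
    exact h.a1 h7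
  have hu21 : u₂ = u₁ * a := by
    rcases hu₁ with e1 | e1 <;> rcases hu₂ with e2 | e2
    · exact absurd (e1.trans e2.symm) hne
    · rw [e1, e2]
    · rw [e1, e2, mul_assoc, h.aa, mul_one]
    · exact absurd (e1.trans e2.symm) hne
  have hu1L : ∀ l ∈ ln h, l * u₁ = u₁ * l := by
    intro l hl
    rcases hu₁ with e | e
    · rw [e]; exact hul l hl
    · rw [e, ← mul_assoc, hul l hl, mul_assoc, C.commL hl C.aL, mul_assoc]
  have hu1a : a * u₁ = u₁ * a := hu1L a C.aL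
  have hu1b : b * u₁ = u₁ * b := hu1L b C.bL
  have hu11 : u₁ * u₁ = 1 := by
    rcases hu₁ with e | e
    · rw [e]; exact huu
    · rw [e]
      calc u * a * (u * a) = u * (a * u) * a := by group
        _ = u * u * (a * a) := by rw [hua]; group
        _ = 1 := by rw [huu, h.aa, mul_one]
  have hu1T : u₁ ∈ T := by
    have h1 : u ∈ T := by rw [hu]; exact (mem_normalizer_iff.1 hwN b).1 (C.L_le C.bL)
    rcases hu₁ with e | e
    · rw [e]; exact h1
    · rw [e]; exact mul_mem h1 (C.L_le C.aL)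
  -- `k = b u₁`
  have hkX : b * u₁ ∈ centralizer (XW W : Set G) := by
    refine C.bt.mem_cen_X (i := 1) (j := 2) (by decide)
      (mul_mem (C.bt.R_cen_W 1) (mem_centralizer_iff.2 h1W)) ?_
    have e : b * u₁ = a * b * u₂ := by
      rw [hu21, ← hu1a]
      calc b * u₁ = (a * a) * b * u₁ := by rw [h.aa, one_mul]
        _ = a * (a * b) * u₁ := by group
        _ = a * (b * a) * u₁ := by rw [h.comm]
        _ = a * b * (a * u₁) := by group
    rw [e]
    exact mul_mem (C.bt.R_cen_W 2) (mem_centralizer_iff.2 h2W)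
  have hkX' : ∀ y ∈ XW W, y * (b * u₁) = b * u₁ * y := fun y hy => mem_centralizer_iff.1 hkX y hy
  have hkT : b * u₁ ∈ T := mul_mem (C.L_le C.bL) hu1T
  have hkk : b * u₁ * (b * u₁) = 1 := by
    calc b * u₁ * (b * u₁) = b * (u₁ * b) * u₁ := by group
      _ = b * b * (u₁ * u₁) := by rw [← hu1b]; group
      _ = 1 := by rw [h.bb, hu11, mul_one]
  have hkc : ∀ t ∈ T, t * (b * u₁) = b * u₁ * t := by
    intro t ht
    have h1 : t * (b * u₁) * t⁻¹ = b * u₁ ∨ t * (b * u₁) * t⁻¹ = b * u₁ * a := by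
      have e : t * (b * u₁) * t⁻¹ = (t * b * t⁻¹) * (t * u₁ * t⁻¹) := by group
      have f2 : t * u₁ * t⁻¹ = u₁ ∨ t * u₁ * t⁻¹ = a * u₁ := by
        have f3 := hTV b C.bL t ht
        rw [← hu] at f3
        rcases hu₁ with e | e
        · rw [e]; exact f3
        · rw [e]
          have f4 : t * (u * a) * t⁻¹ = (t * u * t⁻¹) * (t * a * t⁻¹) := by group
          rw [f4, C.comm_a ht, mul_inv_cancel_right]
          rcases f3 with e | e
          · left; rw [e]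
          · right; rw [e, mul_assoc]
      rw [e]
      have hba : b * a = a * b := h.comm.symm
      rcases C.act_T ht with e1 | e1 <;> rcases f2 with e2 | e2 <;> rw [e1, e2]
      · left; rfl
      · right; rw [hu1a, mul_assoc]
      · right
        rw [mul_assoc, mul_assoc, ← hu1a, ← mul_assoc a b, ← hba, mul_assoc]
      · left
        calc a * b * (a * u₁) = a * (b * a) * u₁ := by group
          _ = (a * a) * b * u₁ := by rw [hba]; group
          _ = b * u₁ := by rw [h.aa, one_mul]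
    rcases h1 with e | e
    · exact mul_inv_eq_iff_eq_mul.1 e
    · exfalso
      have h2 : t ∈ normalizer (centralizer (XW W : Set G) : Set G) :=
        BTwo.normalizer_le_normalizer_centralizer _ (C.bt.NV_le_NX (C.TN ht))
      have h3 := BTwo.conj_mem_of_normalizer h2 hkX
      rw [e] at h3
      have h4 := mul_mem (inv_mem hkX) h3
      rw [inv_mul_cancel_left] at h4
      exact h.a1 (C.bt.cen_VX C.aL h4)
  have hub : u = b * (b * u₁) ∨ u = a * b * (b * u₁) := by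
    have e : b * (b * u₁) = u₁ := by rw [← mul_assoc, h.bb, one_mul]
    rcases hu₁ with e1 | e1
    · left; rw [e, e1]
    · right
      rw [mul_assoc, e, hu1a, e1, mul_assoc, h.aa, mul_one]
  refine ⟨w, hwN, hwT, hw2, hwa', b * u₁, mem_zc.2 ⟨hkT, hkc, by rw [pow_two]; exact hkk⟩, fun e => ?_, hkX', ?_⟩
  · refine C.not_mem_N hwN hw2 hwT (C.mem_N (by rw [hwa']; exact C.aL) ?_)
    rw [← hu]
    rcases hub with f | f
    · rw [f, e, mul_one]; exact C.bL
    · rw [f, e, mul_one]; exact C.abL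
  · rw [← hu]; exact hub

/-- **steps (2), (3)** -/
theorem main {T' : Subgroup G} (hT' : IsPGroup 2 T') (hlt : T < T') (hTa' : T' ≤ centralizer ({a} : Set G))
    {x : G} (hx : x ∈ zc T') (hx1 : x ≠ 1) (hxX : ∀ y ∈ XW W, y * x = x * y) :
    ∃ k ∈ zc T, k ≠ 1 ∧ (∀ y ∈ XW W, y * k = k * y) ∧
      ∃ g, g * k = k * g ∧ g * a * g⁻¹ = a * k ∧ g * b * g⁻¹ = b * k := by
  by_cases hO : o2 (centralizer ({x} : Set G)) ≤ T
  · obtain ⟨w, hw⟩ := C.caseA hT' hlt hTa' hx hx1 hxX hO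
    exact C.three hw
  · obtain ⟨w, hw⟩ := C.caseB (fun t ht => (mem_zc.1 hx).2.1 t (hlt.le ht)) hxX hO
    exact C.three hw


end Cf

end Cfsg.Agent.Omega.IId.SymWrD.Hw.TwoK

end

section


/-!
# THEOREM SYL^ (bb OMEGA #21666, helper916; refereed #21848), steps (1) - (3)

`h : Fw S P V D M` (no partner), `4 ≤ |Ω₁Z(S)|`, `L_0 = {1, n, 10, 20}`, `n = x μ(x)`, `T = C_S(n)`, `T^ ≥ T` a
2-group of odd index in `N_G(L_0)`.
* `Fw.xt` : the groups `K_r`, `r ∈ L_0#` (`TwoK.XT`); `Fw.T_le_cen` : `T^ ≤ C_G(n)`; `Fw.hdecT`; `Fw.cf`;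
* `Fw.exists_k` : if `T^` has even index in `C_G(n)`: there are `1 ≠ k ∈ Ω₁Z(T^) ∩ C(X)` and `γ ∈ C(k)`,
  `n^γ = n k`, `10^γ = 10 k`.
-/

set_option autoImplicit false
set_option linter.unusedSectionVars false

namespace Cfsg.Agent.Omega.IId.SymWrD.Hw

open Subgroup Cfsg Cfsg.Agent.Omega.MinPar Cfsg.Agent.Omega.FFThm
open Cfsg.Agent.ZN (o2 zc)
open Cfsg.Agent.ZN.ChoiceBase (cj mem_cj)
open Cfsg.Agent.Omega.Half.SymA (Pt E Mv pm)
open Cfsg.Agent.Omega.HT.LineOf (Ln ln pts dd)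
open Cfsg.Agent.Omega.IId.Triangle (KK mem_KK KK_conj)
open Cfsg.Agent.MinSimple.VModule (le_normalizer_o2 o2_isPGroup o2_le mem_zc zc_le)
open Ht (DD mem_DD Fr Tri tn)

universe u

variable {G : Type u} [Group G] [Finite G] {k m : ℕ}

namespace Fw

variable {S : Sylow 2 G} {P V D : Subgroup G} {M : SymK (S : Subgroup G) P V ⊥ k m} (h : Fw S P V D M)
  {p q r : Pt k m}
include h

/-- the groups `K_i` -/
theorem xt (t : Tri p q r) : TwoK.XT (h.line3 t) (fun i => KK (dd (pr M p q) (pr M p r) i)) where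
  VQ := by
    intro i
    obtain ⟨a, b, c, e1, -, e2, -, -, e, -⟩ := h.dd_cases t i
    show _ ≤ o2 (centralizer ({dd (pr M p q) (pr M p r) i} : Set G))
    rw [e]
    exact (h.ln_le t).trans (h.V_le e1 e2)
  QV := by
    intro i g hg v hv
    obtain ⟨a, b, c, e1, -, e2, -, -, e, -⟩ := h.dd_cases t i
    change g ∈ o2 (centralizer ({dd (pr M p q) (pr M p r) i} : Set G)) at hg
    rw [e] at hg
    rw [(h.line3 t).mem_pts, e]
    rcases h.comm_mem e1 e2 hg (h.ln_le t hv) with h1 | h1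
    · left; rw [h1, mul_inv_cancel]
    · right
      rw [h1, h.Vcomm (h.ln_le t hv) (pr_mem M a b), mul_inv_cancel_right]
  W_le_Q := by
    intro i
    obtain ⟨a, b, c, e1, -, e2, -, -, e, -⟩ := h.dd_cases t i
    show KK (dd (pr M p q) (pr M p r) i) ≤ o2 (centralizer ({dd (pr M p q) (pr M p r) i} : Set G))
    rw [e]
    exact h.KK_le e1 e2
  QW := by
    intro i g hg w hw
    have h1 := (mem_KK.1 hw).2 g hg
    have e : g * w * g⁻¹ * w⁻¹ = (w * g * w⁻¹ * g⁻¹)⁻¹ := by group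
    rw [e]
    exact inv_mem h1
  cjW := by
    intro g i j e w hw
    have h1 := KK_conj (h := g) hw
    rw [e] at h1
    exact h1
  sw := by
    intro i j l hj hl
    by_cases hjl : j = l
    · exact ⟨1, one_mem _, by rw [hjl]; group⟩
    obtain ⟨a, b, c, e1, e1', e2, e2', e3, e, ⟨j₀, hj₀⟩, -⟩ := h.dd_cases t i
    obtain ⟨w, hw, hwp⟩ := h.par e1 e2
    have hwP := h.Qle e1 e2 (h.KK_le e1 e2 hw)
    have hE : E M (pr M a c) a ≠ E M (pr M a c) b := by
      rw [E_pr_left M e1' e2', E_pr_of_ne M e1' e2.symm e3]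
      exact one_ne_zero
    have h1 : w * dd (pr M p q) (pr M p r) j₀ * w⁻¹ =
        dd (pr M p q) (pr M p r) j₀ * dd (pr M p q) (pr M p r) i := by
      rw [hj₀, e]
      exact h.conj_swap hwP e1 hwp (pr_mem M a c) hE
    have h2 : w * dd (pr M p q) (pr M p r) i * w⁻¹ = dd (pr M p q) (pr M p r) i := by
      rw [e, (mem_KK.1 hw).1, mul_inv_cancel_right]
    have hji : j₀ ≠ i := by
      rintro rfl
      rw [h2] at h1
      exact (h.line3 t).dd_ne j₀ (mul_left_cancel (h1.symm.trans (mul_one _).symm)) 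
    refine ⟨w, by rw [e]; exact hw, ?_⟩
    by_cases hjj : j = j₀
    · rw [hjj, h1]
      exact (h.line3 t).dd_mul hji (fun e => hjl (by rw [hjj, e])) (Ne.symm hl)
    · have hj0l : j₀ = l := HT.LineOf.third_eq hj hl hjl hji (fun e => hjj e.symm)
      have h3 : dd (pr M p q) (pr M p r) j = dd (pr M p q) (pr M p r) j₀ * dd (pr M p q) (pr M p r) i :=
        ((h.line3 t).dd_mul hji (fun e => hjj e.symm) (Ne.symm hj)).symm
      rw [h3]
      calc w * (dd (pr M p q) (pr M p r) j₀ * dd (pr M p q) (pr M p r) i) * w⁻¹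
          = (w * dd (pr M p q) (pr M p r) j₀ * w⁻¹) * (w * dd (pr M p q) (pr M p r) i * w⁻¹) := by group
        _ = dd (pr M p q) (pr M p r) l := by rw [h1, h2, mul_assoc, (h.line3 t).dd_sq, mul_one, hj0l]

variable {μ ν : Equiv.Perm (Pt k m)} (F : Fours M μ ν) {x : Pt k m} (hx : x.2 ≠ 0)
  (zv : zc (o2 P) ≤ V ⊔ DD M) {T : Subgroup G} (hTT : tn S M μ x ≤ T) (hTp : IsPGroup 2 T)
  (hTN : T ≤ normalizer (ln (h.line3 (h.tri F hx)) : Set G))
include F hx

/-- `t_n ∈ T` -/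
theorem exists_tn : ∃ τ ∈ tn S M μ x, pp M τ = Equiv.swap x (μ x) ∧
    τ * pr M x (x.1, 0) * τ⁻¹ = pr M x (x.1, 0) * pr M x (μ x) := by
  obtain ⟨τ, hτ, hτp⟩ := h.exists_swap F hx hx
  have t := h.tri F hx
  refine ⟨τ, hτ, hτp, h.conj_swap (h.SP hτ.1) t.pq hτp (pr_mem M _ _) ?_⟩
  rw [E_pr_left M t.pr t.n2, E_pr_of_ne M t.pr t.n1.symm t.n3]
  exact one_ne_zero

include hTT in
/-- an element of the line commuting with `T` is in `⟨n⟩` -/
theorem ln_fix {v : G} (hv : v ∈ ln (h.line3 (h.tri F hx))) (hvT : ∀ t ∈ T, t * v = v * t) :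
    v = 1 ∨ v = pr M x (μ x) := by
  have t := h.tri F hx
  obtain ⟨τ, hτ, -, e⟩ := h.exists_tn F hx
  have hτv := hvT τ (hTT hτ)
  have hn : τ * pr M x (μ x) * τ⁻¹ = pr M x (μ x) := by
    rw [mem_centralizer_singleton_iff.1 hτ.2, mul_inv_cancel_right]
  have hne : pr M x (μ x) ≠ 1 := h.pr_ne t.pq t.n1
  rcases hv with e1 | ⟨i, e1⟩
  · exact Or.inl e1
  · fin_cases i
    · exact Or.inr e1
    · exfalso
      have e2 : v = pr M x (x.1, 0) := e1
      rw [← e2, hτv, mul_inv_cancel_right] at e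
      exact hne (mul_left_cancel ((mul_one v).trans e)).symm
    · exfalso
      have e2 : v = pr M x (μ x) * pr M x (x.1, 0) := e1
      have e3 : τ * v * τ⁻¹ = v * pr M x (μ x) := by
        rw [e2]
        calc τ * (pr M x (μ x) * pr M x (x.1, 0)) * τ⁻¹
            = (τ * pr M x (μ x) * τ⁻¹) * (τ * pr M x (x.1, 0) * τ⁻¹) := by group
          _ = pr M x (μ x) * pr M x (x.1, 0) * pr M x (μ x) := by rw [hn, e, mul_assoc]
      rw [hτv, mul_inv_cancel_right] at e3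
      exact hne (mul_left_cancel ((mul_one v).trans e3)).symm

include hTT hTp hTN

theorem T_le_cen : T ≤ centralizer ({pr M x (μ x)} : Set G) := by
  have hV : IsPGroup 2 (ln (h.line3 (h.tri F hx))) := by
    rintro ⟨v, hv⟩
    refine ⟨1, Subtype.ext ?_⟩
    show v ^ 2 ^ 1 = 1
    rw [pow_one, pow_two]
    exact h.Vsq (h.ln_le (h.tri F hx) hv)
  obtain ⟨e, he, he1, -, hc⟩ := HT.exists_inv hTp hV (fun e0 => (h.line3 (h.tri F hx)).a1 (by
    have h1 : pr M x (μ x) ∈ ln (h.line3 (h.tri F hx)) := (h.line3 (h.tri F hx)).dd_mem 0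
    rw [e0] at h1
    exact mem_bot.1 h1)) hTN
  have h1 := (h.ln_fix F hx hTT he fun t ht => (hc t ht).symm).resolve_left he1
  intro t ht
  rw [mem_centralizer_singleton_iff, ← h1]
  exact (hc t ht).symm

theorem zcT_le : zc T ≤ zc (tn S M μ x) := by
  intro z hz
  have h1 := mem_zc.1 hz
  have h2 : z ∈ zc (o2 P) := h.mem_zc_of F hx (by rw [← pow_two]; exact h1.2.2)
    fun y hy => h1.2.1 y (hTT (h.Q_le_tn F hx hy))
  exact mem_zc.2 ⟨h.Q_le_tn F hx (zc_le _ h2), fun y hy => h1.2.1 y (hTT hy), h1.2.2⟩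

include zv

theorem hdecT {z : G} (hz : z ∈ zc T) : ∃ v ∈ ln (h.line3 (h.tri F hx)), ∃ c,
    (∀ y ∈ h.XK (h.tri F hx), y * c = c * y) ∧ (∀ t ∈ T, t * c = c * t) ∧ z = v * c := by
  obtain ⟨v, hv, c, hcX, hcT, e⟩ := h.hdec F hx zv (h.zcT_le F hx hTT hTp hTN hz)
  have hzT := (mem_zc.1 hz).2.1
  have hv1 : v = 1 ∨ v = pr M x (μ x) := by
    refine h.ln_fix F hx le_rfl hv fun t ht => ?_
    have h1 : v = z * c⁻¹ := by rw [e]; group
    have h2 : t * c⁻¹ = c⁻¹ * t := ((show Commute t c from hcT t ht).inv_right).eq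
    rw [h1, ← mul_assoc, hzT t (hTT ht), mul_assoc, h2, mul_assoc]
  refine ⟨v, hv, c, hcX, fun t ht => ?_, e⟩
  have h1 : c = v⁻¹ * z := by rw [e]; group
  have h2 : t * v = v * t := by
    rcases hv1 with e1 | e1
    · rw [e1, mul_one, one_mul]
    · rw [e1]; exact mem_centralizer_singleton_iff.1 (h.T_le_cen F hx hTT hTp hTN ht)
  have h3 : t * v⁻¹ = v⁻¹ * t := ((show Commute t v from h2).inv_right).eq
  rw [h1, ← mul_assoc, h3, mul_assoc, hzT t ht, mul_assoc]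

theorem cf (hodd : ¬ 2 ∣ T.relIndex (normalizer (ln (h.line3 (h.tri F hx)) : Set G))) :
    TwoK.Cf (h.line3 (h.tri F hx)) (fun i => KK (dd (pr M x (μ x)) (pr M x (x.1, 0)) i)) T where
  bt := h.xt (h.tri F hx)
  char2 := h.char2
  Tp := hTp
  TN := hTN
  Ta := h.T_le_cen F hx hTT hTp hTN
  syl := hodd
  dec := fun z hz => h.hdecT F hx zv hTT hTp hTN hz
  zt := by
    intro t ht c hc hcc hc0
    have hTn := h.T_le_cen F hx hTT hTp hTN
    have hQ : ∀ y ∈ o2 P, y ∈ T ∧ y ∈ centralizer (ln (h.line3 (h.tri F hx)) : Set G) := by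
      intro y hy
      refine ⟨hTT (h.Q_le_tn F hx hy), ?_⟩
      have h1 : y ∈ centralizer (V : Set G) := by
        have := h.Q_eq ▸ hy
        exact this.2
      exact centralizer_le (h.ln_le (h.tri F hx)) h1
    have hcz : c ∈ zc (o2 P) := h.mem_zc_of F hx hcc fun y hy => hc0 y (hQ y hy).1 (hQ y hy).2
    obtain ⟨τ, hτ, hτp, eτ⟩ := h.exists_tn F hx
    have hτc := h.swap_zz zv (h.SP hτ.1) (h.tri F hx).pq hτp hcz
    have hnn : ∀ {s : G}, s ∈ T → s * pr M x (μ x) = pr M x (μ x) * s := fun hs =>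
      mem_centralizer_singleton_iff.1 (hTn hs)
    -- the action of `t` on the line
    have hact : t * pr M x (x.1, 0) * t⁻¹ = pr M x (x.1, 0) ∨
        t * pr M x (x.1, 0) * t⁻¹ = pr M x (μ x) * pr M x (x.1, 0) := by
      have h1 : t * pr M x (x.1, 0) * t⁻¹ ∈ ln (h.line3 (h.tri F hx)) :=
        BTwo.conj_mem_of_normalizer (hTN ht) ((h.line3 (h.tri F hx)).dd_mem 1)
      rcases h1 with e | ⟨i, e⟩
      · exact absurd (conj_eq_one_iff.1 e) (h.line3 (h.tri F hx)).b1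
      · fin_cases i
        · exfalso
          have e1 : t * pr M x (x.1, 0) * t⁻¹ = pr M x (μ x) := e
          have e2 : t * pr M x (μ x) * t⁻¹ = pr M x (μ x) := by rw [hnn ht, mul_inv_cancel_right]
          exact (h.line3 (h.tri F hx)).ne (mul_left_cancel (mul_right_cancel (e2.trans e1.symm)))
        · exact Or.inl e
        · exact Or.inr e
    have hcen : ∀ {s : G}, s ∈ T → s * pr M x (x.1, 0) * s⁻¹ = pr M x (x.1, 0) →
        s ∈ centralizer (ln (h.line3 (h.tri F hx)) : Set G) := by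
      intro s hs e
      have h1 := hnn hs
      have h2 : s * pr M x (x.1, 0) = pr M x (x.1, 0) * s := mul_inv_eq_iff_eq_mul.1 e
      rw [mem_centralizer_iff]
      rintro v (rfl | ⟨i, rfl⟩)
      · rw [one_mul, mul_one]
      · fin_cases i
        · exact h1.symm
        · exact h2.symm
        · show pr M x (μ x) * pr M x (x.1, 0) * s = s * (pr M x (μ x) * pr M x (x.1, 0))
          rw [mul_assoc, ← h2, ← mul_assoc, ← h1, mul_assoc]
    rcases hact with e | e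
    · left
      rw [hc0 t ht (hcen ht e), mul_inv_cancel_right]
    · -- `t τ⁻¹` centralises the line
      have hs : t * τ⁻¹ ∈ T := mul_mem ht (inv_mem (hTT hτ))
      have hcm : pr M x (μ x) * pr M x (x.1, 0) = pr M x (x.1, 0) * pr M x (μ x) := (h.line3 (h.tri F hx)).comm
      have e2 : t * τ⁻¹ * pr M x (x.1, 0) * (t * τ⁻¹)⁻¹ = pr M x (x.1, 0) := by
        have e3 : τ⁻¹ * pr M x (x.1, 0) * τ = pr M x (x.1, 0) * pr M x (μ x) := by
          have e4 : τ⁻¹ * (pr M x (x.1, 0) * pr M x (μ x)) * τ = pr M x (x.1, 0) := by rw [← eτ]; group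
          have e5 : τ⁻¹ * pr M x (μ x) * τ = pr M x (μ x) := by
            have := hnn (hTT hτ)
            rw [mul_assoc, ← this, inv_mul_cancel_left]
          calc τ⁻¹ * pr M x (x.1, 0) * τ
              = τ⁻¹ * (pr M x (x.1, 0) * pr M x (μ x)) * τ * (τ⁻¹ * pr M x (μ x) * τ)⁻¹ := by group
            _ = pr M x (x.1, 0) * (pr M x (μ x))⁻¹ := by rw [e4, e5]
            _ = pr M x (x.1, 0) * pr M x (μ x) := by
              rw [inv_eq_of_mul_eq_one_left (h.pr_sq (p := x) (q := μ x))]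
        calc t * τ⁻¹ * pr M x (x.1, 0) * (t * τ⁻¹)⁻¹ = t * (τ⁻¹ * pr M x (x.1, 0) * τ) * t⁻¹ := by group
          _ = (t * pr M x (x.1, 0) * t⁻¹) * (t * pr M x (μ x) * t⁻¹) := by rw [e3]; group
          _ = pr M x (x.1, 0) := by
            rw [e, hnn ht, mul_inv_cancel_right, hcm, mul_assoc, h.pr_sq, mul_one]
      have h1 := hc0 _ hs (hcen hs e2)
      have e3 : t * c * t⁻¹ = t * τ⁻¹ * (τ * c * τ⁻¹) * (t * τ⁻¹)⁻¹ := by group
      rcases hτc with e4 | e4
      · left; rw [e3, e4, h1, mul_inv_cancel_right]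
      · right
        rw [e3, e4]
        calc t * τ⁻¹ * (c * pr M x (μ x)) * (t * τ⁻¹)⁻¹
            = (t * τ⁻¹ * c) * pr M x (μ x) * (t * τ⁻¹)⁻¹ := by group
          _ = c * (t * τ⁻¹ * pr M x (μ x)) * (t * τ⁻¹)⁻¹ := by rw [h1]; group
          _ = c * pr M x (μ x) := by rw [hnn hs]; group

omit hTN in
/-- a maximal 2-subgroup of `C(n)` contains `Ω₁Z` of a Sylow 2-subgroup of `G` -/
theorem card_zc_le {T' : Subgroup G} (hT' : IsPGroup 2 T') (hTT' : T ≤ T')
    (hT'n : T' ≤ centralizer ({pr M x (μ x)} : Set G))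
    (hodd : ¬ 2 ∣ T'.relIndex (centralizer ({pr M x (μ x)} : Set G))) :
    Nat.card (zc (S : Subgroup G)) ≤ Nat.card (zc T') := by
  obtain ⟨g, -, hg⟩ := CloseA.exists_conj_le S (H := ⊤) le_top (T := T') le_top hT'
  -- `z ↦ g⁻¹ z g`
  have key : ∀ z ∈ zc (S : Subgroup G), g⁻¹ * z * g ∈ zc T' := by
    intro z hz
    have h1 := mem_zc.1 hz
    obtain ⟨z', hz'⟩ : ∃ z', z' = g⁻¹ * z * g := ⟨_, rfl⟩
    rw [← hz']
    have hc : ∀ t ∈ T', t * z' = z' * t := by
      intro t ht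
      have h2 := h1.2.1 _ (hg t ht)
      rw [hz']
      calc t * (g⁻¹ * z * g) = g⁻¹ * (g * t * g⁻¹ * z) * g := by group
        _ = g⁻¹ * (z * (g * t * g⁻¹)) * g := by rw [h2]
        _ = g⁻¹ * z * g * t := by group
    have h2 : z' ^ 2 = 1 := by
      rw [hz', pow_two]
      calc g⁻¹ * z * g * (g⁻¹ * z * g) = g⁻¹ * (z ^ 2) * g := by rw [pow_two]; group
        _ = 1 := by rw [h1.2.2]; group
    have hn : z' ∈ centralizer ({pr M x (μ x)} : Set G) := by
      rw [mem_centralizer_singleton_iff]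
      exact (hc _ (hTT' (hTT (h.V_le_tn F hx (pr_mem M _ _))))).symm
    have hzN : z' ∈ normalizer (T' : Set G) := by
      refine BTwo.mem_normalizer_of_conj fun t ht => ?_
      rw [← hc t ht, mul_inv_cancel_right]; exact ht
    by_contra hcon
    have h3 : z' ∉ T' := fun e => hcon (mem_zc.2 ⟨e, hc, h2⟩)
    have h4 : IsPGroup 2 (T' ⊔ zpowers z' : Subgroup G) :=
      TwoK.sup_zp hT' hzN (by rw [← pow_two, h2]; exact one_mem _)
    have h5 := HT.card_dvd_card hT'n hodd h4 (sup_le hT'n (by rw [zpowers_le]; exact hn))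
    have h6 : T' = T' ⊔ zpowers z' := eq_of_le_of_card_ge le_sup_left (Nat.le_of_dvd Nat.card_pos h5)
    exact h3 (h6.symm.le (mem_sup_right (mem_zpowers z')))
  refine Nat.card_le_card_of_injective (fun z : zc (S : Subgroup G) => (⟨g⁻¹ * z * g, key z z.2⟩ : zc T')) ?_
  intro z w e
  have h1 : g⁻¹ * (z : G) * g = g⁻¹ * w * g := congrArg Subtype.val e
  exact Subtype.ext (mul_left_cancel (mul_right_cancel h1))

/-- the configuration after (1) - (3) -/
theorem exists_k (h4 : 4 ≤ Nat.card (zc (S : Subgroup G)))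
    (hodd : ¬ 2 ∣ T.relIndex (normalizer (ln (h.line3 (h.tri F hx)) : Set G)))
    (hneg : 2 ∣ T.relIndex (centralizer ({pr M x (μ x)} : Set G))) :
    ∃ k ∈ zc T, k ≠ 1 ∧ (∀ y ∈ h.XK (h.tri F hx), y * k = k * y) ∧ ∃ g, g * k = k * g ∧
      g * pr M x (μ x) * g⁻¹ = pr M x (μ x) * k ∧ g * pr M x (x.1, 0) * g⁻¹ = pr M x (x.1, 0) * k := by
  have C := h.cf F hx zv hTT hTp hTN hodd
  have hTn := h.T_le_cen F hx hTT hTp hTN
  obtain ⟨T', hTT', hT'n, hT', hodd'⟩ := HT.exists_syl hTp hTn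
  have hlt : T < T' := lt_of_le_of_ne hTT' fun e => hodd' (by rw [← e]; exact hneg)
  have hcard := h4.trans (h.card_zc_le F hx zv hTT hTp hT' hTT' hT'n hodd')
  -- an element of `Ω₁Z(T')` outside `⟨n⟩`
  obtain ⟨z, hz, hz1, hzn⟩ : ∃ z ∈ zc T', z ≠ 1 ∧ z ≠ pr M x (μ x) := by
    by_contra hcon
    push Not at hcon
    have h1 : Nat.card (zc T') ≤ Nat.card (zpowers (pr M x (μ x))) := by
      refine card_le_of_le fun z hz => ?_
      by_cases e : z = 1
      · rw [e]; exact one_mem _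
      · rw [hcon z hz e]; exact mem_zpowers _
    rw [HT.LineOf.card_zp h.pr_sq (h.pr_ne (h.tri F hx).pq (h.tri F hx).n1)] at h1
    omega
  have hzT' := mem_zc.1 hz
  have hnT : pr M x (μ x) ∈ T := hTT (h.V_le_tn F hx (pr_mem M _ _))
  have hnz : pr M x (μ x) ∈ zc T' := mem_zc.2 ⟨hTT' hnT, fun t ht => mem_centralizer_singleton_iff.1 (hT'n ht),
    by rw [pow_two]; exact h.pr_sq⟩
  have hzT : z ∈ zc T := by
    have h2 : z ∈ zc (o2 P) := h.mem_zc_of F hx (by rw [← pow_two]; exact hzT'.2.2)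
      fun y hy => hzT'.2.1 y (hTT' (hTT (h.Q_le_tn F hx hy)))
    exact mem_zc.2 ⟨hTT (h.Q_le_tn F hx (zc_le _ h2)), fun y hy => hzT'.2.1 y (hTT' hy), hzT'.2.2⟩
  obtain ⟨v, hv, c, hcX, hcT, e⟩ := h.hdecT F hx zv hTT hTp hTN hzT
  have hv1 : v = 1 ∨ v = pr M x (μ x) := by
    refine h.ln_fix F hx hTT hv fun t ht => ?_
    have h1 : v = z * c⁻¹ := by rw [e]; group
    have h2 : t * c⁻¹ = c⁻¹ * t := ((show Commute t c from hcT t ht).inv_right).eq
    rw [h1, ← mul_assoc, (mem_zc.1 hzT).2.1 t ht, mul_assoc, h2, mul_assoc]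
  obtain ⟨y, hy, hy1, hyX⟩ : ∃ y ∈ zc T', y ≠ 1 ∧ ∀ s ∈ h.XK (h.tri F hx), s * y = y * s := by
    rcases hv1 with e1 | e1
    · rw [e1, one_mul] at e
      exact ⟨z, hz, hz1, by rw [e]; exact hcX⟩
    · refine ⟨c, ?_, fun e2 => hzn ?_, hcX⟩
      · have : c = (pr M x (μ x))⁻¹ * z := by rw [e, e1]; group
        rw [this]
        exact mul_mem (inv_mem hnz) hz
      · rw [e, e1, e2, mul_one]
  exact C.main hT' hlt hT'n hy hy1 hyX


end Fw

end Cfsg.Agent.Omega.IId.SymWrD.Hw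

end

section


/-!
# THEOREM SYL^ (bb OMEGA #21666, helper916), steps (5), (6) (helper48)

`T_n = C_S(n)`, `p = n v₀ d₀`, `N` an abelian group normalised by `C_G(p)`.
* `Fw.syl_five` : the elements of `N ∩ T_n` act on the points as `1` or `(x μx)`;
* `Fw.syl_six` : `N ≤ T_n`.
-/

set_option autoImplicit false
set_option linter.unusedSectionVars false

namespace Cfsg.Agent.Omega.IId.SymWrD.Hw

open Subgroup Cfsg Cfsg.Agent.Omega.MinPar Cfsg.Agent.Omega.FFThm
open Cfsg.Agent.ZN (o2 zc)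
open Cfsg.Agent.Omega.Half.SymA (Pt E Mv pm)
open Cfsg.Agent.Omega.HT.LineOf (Ln ln pts dd)
open Cfsg.Agent.Omega.IId.Triangle (KK mem_KK KK_conj KK_le_o2)
open Cfsg.Agent.MinSimple.VModule (le_normalizer_o2 o2_isPGroup o2_le mem_zc zc_le normalizer_le_normalizer_zc)
open Cfsg.Agent.MinSimple.Geo (mem_o2_of_stab)
open Ht (DD mem_DD Fr Tri tn)

universe u

variable {G : Type u} [Group G] {k m : ℕ}

namespace Fw

variable {S : Sylow 2 G} {P V D : Subgroup G} {M : SymK (S : Subgroup G) P V ⊥ k m} (h : Fw S P V D M)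
  {μ ν : Equiv.Perm (Pt k m)} (F : Fours M μ ν) {x : Pt k m} (hx : x.2 ≠ 0)
include h F hx

/-- an element of `V` commuting with `T_n` takes the same value on `c` and its sibling, in the other summands -/
theorem fix_nu [Finite G] {v : G} (hv : v ∈ V) (hT : ∀ s ∈ tn S M μ x, s * v = v * s) {c : Pt k m}
    (hcx : c.1 ≠ x.1) : E M v (ν c) = E M v c := by
  classical
  have hinv : Function.Involutive (fun p : Pt k m => if p.1 = c.1 then ν p else p) := by
    intro p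
    by_cases h1 : p.1 = c.1
    · have h2 : (ν p).1 = c.1 := (F.nfst p).trans h1
      show (if (if p.1 = c.1 then ν p else p).1 = c.1 then ν (if p.1 = c.1 then ν p else p) else
        (if p.1 = c.1 then ν p else p)) = p
      rw [if_pos h1, if_pos h2, F.nsq]
    · show (if (if p.1 = c.1 then ν p else p).1 = c.1 then ν (if p.1 = c.1 then ν p else p) else
        (if p.1 = c.1 then ν p else p)) = p
      rw [if_neg h1, if_neg h1]
  obtain ⟨π, hπ⟩ : ∃ π : Equiv.Perm (Pt k m), ∀ p, π p = if p.1 = c.1 then ν p else p :=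
    ⟨hinv.toPerm, fun p => rfl⟩
  have hmem : π ∈ F.FD := by
    refine ⟨fun p => ?_, fun p => ?_⟩
    · rw [hπ]
      by_cases h1 : p.1 = c.1
      · rw [if_pos h1]; exact Or.inr (Or.inr (Or.inl rfl))
      · rw [if_neg h1]; exact Or.inl rfl
    · rw [hπ, hπ]
      by_cases h1 : p.1 = c.1
      · rw [if_pos h1, if_pos ((F.mfst p).trans h1), F.comm]
      · rw [if_neg h1, if_neg (fun e => h1 ((F.mfst p).symm.trans e))]
  obtain ⟨s, hs, e⟩ := Fours.exists_D h.toSit F hmem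
  have hsx : pp M s x = x := by rw [e, hπ, if_neg (Ne.symm hcx)]
  have hsm : pp M s (μ x) = μ x := by rw [F.meqv s hs.1, hsx]
  have hst : s ∈ tn S M μ x :=
    mem_inf.2 ⟨hs.1, mem_centralizer_singleton_iff.2 (h.comm_pr (h.SP hs.1) (F.mfst x).symm (Or.inl ⟨hsx, hsm⟩))⟩
  have h1 := (h.comm_iff (h.SP hs.1) hv).1 (hT s hst) c
  rwa [e, hπ, if_pos rfl] at h1

/-- **(5)** -/
theorem syl_five [Finite G] {v₀ d₀ : G} (hv₀ : v₀ ∈ V) (hd₀ : d₀ ∈ DD M) (hvT : ∀ s ∈ tn S M μ x, s * v₀ = v₀ * s)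
    (hdT : ∀ s ∈ tn S M μ x, s * d₀ = d₀ * s) (h0 : E M v₀ x = 0) {N : Subgroup G}
    (hNab : ∀ a ∈ N, ∀ b ∈ N, a * b = b * a)
    (hCN : ∀ g, g * (pr M x (μ x) * (v₀ * d₀)) = pr M x (μ x) * (v₀ * d₀) * g → ∀ a ∈ N, g * a * g⁻¹ ∈ N)
    {y : G} (hyN : y ∈ N) (hyT : y ∈ tn S M μ x) : pp M y = 1 ∨ pp M y = Equiv.swap x (μ x) := by
  classical
  have hyS := hyT.1
  have hyP := h.SP hyS
  have hmulc : ∀ {y a b : G}, y * a = a * y → y * b = b * y → y * (a * b) = a * b * y := by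
    intro y a b h2 h3
    rw [← mul_assoc, h2, mul_assoc, h3, mul_assoc]
  -- `T_n` normalises `N`
  have hTN : ∀ s ∈ tn S M μ x, ∀ a ∈ N, s * a * s⁻¹ ∈ N := fun s hs =>
    hCN s (hmulc (mem_centralizer_singleton_iff.1 hs.2) (hmulc (hvT s hs) (hdT s hs)))
  have hVT := h.V_le_tn F hx
  have hμ2 : ∀ {c : Pt k m}, c.2 ≠ 0 → (μ c).2 ≠ 0 := fun hc h0 => hc (F.mnz.1 h0)
  have hxn : ∀ {c : Pt k m}, E M (pr M x (μ x)) (c.1, 0) = 0 := by
    intro c
    refine E_pr_of_ne M (F.mfst x).symm (fun e => hx ?_) (fun e => hμ2 hx ?_)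
    · rw [← e]
    · rw [← e]
  -- the duad of `c` lies in `N`
  have hdu : ∀ {c : Pt k m} {a : G}, a ∈ N → a ∈ tn S M μ x → pp M a c = μ c → pr M c (μ c) ∈ N := by
    intro c a ha haT hac
    have h1 : a * pr M (c.1, 0) c * a⁻¹ = pr M (c.1, 0) (μ c) := by
      rw [h.conj_zz haT.1, hac, F.mfst]
    have hv := pr_mem M (c.1, 0) c
    have h2 : pr M c (μ c) = pr M (c.1, 0) c * a * (pr M (c.1, 0) c)⁻¹ * a⁻¹ := by
      have h3 : (pr M (c.1, 0) c)⁻¹ = pr M (c.1, 0) c := inv_eq_of_mul_eq_one_left (h.Vsq hv)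
      calc pr M c (μ c) = pr M c (c.1, 0) * pr M (c.1, 0) (μ c) :=
            (pr_mul M (p := c) (q := (c.1, 0)) (r := μ c) rfl (F.mfst c).symm).symm
        _ = pr M (c.1, 0) c * (a * pr M (c.1, 0) c * a⁻¹) := by
            rw [h1, pr_comm M (p := c) (q := (c.1, 0)) rfl]
        _ = _ := by rw [h3]; group
    rw [h2]
    exact mul_mem (hTN _ (hVT hv) a ha) (inv_mem ha)
  -- A
  have hA : ∀ c : Pt k m, c.2 ≠ 0 → pp M y c = c ∨ pp M y c = μ c := by
    intro c hc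
    by_contra hcon
    push Not at hcon
    obtain ⟨h1, h2⟩ := hcon
    obtain ⟨τ, hτ, hτp⟩ := h.exists_swap F hx hc
    have hτP := h.SP hτ.1
    have hai : τ⁻¹ * y * τ⁻¹⁻¹ * y⁻¹ ∈ N := mul_mem (hTN _ (inv_mem hτ) y hyN) (inv_mem hyN)
    have haT : τ⁻¹ * y * τ⁻¹⁻¹ * y⁻¹ ∈ tn S M μ x :=
      mul_mem (mul_mem (mul_mem (inv_mem hτ) hyT) (inv_mem (inv_mem hτ))) (inv_mem hyT)
    have hpp : pp M (τ⁻¹ * y * τ⁻¹⁻¹ * y⁻¹) c = μ c := by
      have e1 : pp M (τ⁻¹ * y * τ⁻¹⁻¹ * y⁻¹) = (pp M τ)⁻¹ * pp M y * pp M τ * (pp M y)⁻¹ := by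
        rw [inv_inv, h.mul (mul_mem (mul_mem (inv_mem hτP) hyP) hτP) (inv_mem hyP),
          h.mul (mul_mem (inv_mem hτP) hyP) hτP, h.mul (inv_mem hτP) hyP, h.inv hτP, h.inv hyP]
      have hyy : pp M y ((pp M y)⁻¹ c) = c := (pp M y).apply_symm_apply c
      have e2 : (pp M y)⁻¹ c ≠ c := fun e => h1 (by rw [e] at hyy; exact hyy)
      have e3 : (pp M y)⁻¹ c ≠ μ c := fun e => h2 (by
        rw [e, F.meqv y hyS] at hyy
        rw [← hyy, F.msq]
        rw [hyy])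
      rw [e1, Equiv.Perm.mul_apply, Equiv.Perm.mul_apply, Equiv.Perm.mul_apply, hτp,
        Equiv.swap_apply_of_ne_of_ne e2 e3, hyy, Equiv.swap_inv, Equiv.swap_apply_left]
    have hr := hdu hai haT hpp
    have h3 := hNab y hyN _ hr
    have h4 := (h.comm_iff hyP (pr_mem M c (μ c))).1 h3 c
    rw [E_pr_left M (F.mfst c).symm (F.mne c hc).symm, E_pr_of_ne M (F.mfst c).symm h1 h2] at h4
    exact zero_ne_one h4
  -- B
  have hB : ∀ c : Pt k m, c.2 ≠ 0 → c ≠ x → c ≠ μ x → pp M y c = c := by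
    intro c hc hcx hcm
    refine (hA c hc).resolve_right fun hyc => ?_
    have hr := hdu hyN hyT hyc
    have hμc := F.mne c hc
    have hcc : (μ c).1 = c.1 := F.mfst c
    have hpv : pr M x (μ x) * v₀ ∈ V := mul_mem (pr_mem M _ _) hv₀
    have hEm := fun q => Half.SymA.E_mul M (pr_mem M x (μ x)) hv₀ (p := q)
    have hvm : E M v₀ (μ c) = E M v₀ c := h.fix_mu F hx hv₀ hvT c
    obtain ⟨c', h1, h2, h3, h4⟩ : ∃ c' : Pt k m, (μ c).1 = c'.1 ∧ c' ≠ c ∧ c' ≠ μ c ∧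
        E M (pr M x (μ x) * v₀) (μ c) = E M (pr M x (μ x) * v₀) c' := by
      have hxm : E M (pr M x (μ x)) (μ c) = 0 := by
        refine E_pr_of_ne M (F.mfst x).symm (fun e => hcm ?_) (fun e => hcx (μ.injective e))
        rw [← e, F.msq]
      by_cases hv0 : E M v₀ (μ c) = 0
      · refine ⟨(c.1, 0), hcc, fun e => hc (by rw [← e]), fun e => hμ2 hc (by rw [← e]), ?_⟩
        rw [hEm, hEm, hxm, hv0, hxn, h.fix_zero F hx hv₀ hvT c.1]
      · by_cases hcb : c.1 = x.1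
        · refine ⟨x, hcc.trans hcb, Ne.symm hcx, fun e => hcm ?_, ?_⟩
          · rw [e, F.msq]
          · have k1 : ∀ a : ZMod 2, a ≠ 0 → a = 1 := by decide
            rw [hEm, hEm, hxm, k1 _ hv0, h0, E_pr_left M (F.mfst x).symm (F.mne x hx).symm]
            decide
        · have hnb : ν c ≠ x := fun e => hcb (by rw [← F.nfst c, e])
          have hnb' : ν c ≠ μ x := fun e => hcb (by rw [← F.nfst c, e, F.mfst])
          refine ⟨ν c, hcc.trans (F.nfst c).symm, F.nne c hc, F.nmu c hc, ?_⟩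
          rw [hEm, hEm, hxm, hvm, h.fix_nu F hx hv₀ hvT hcb, E_pr_of_ne M (F.mfst x).symm hnb hnb']
    obtain ⟨g, hg, hgp⟩ := h.exists_pp (π := Equiv.swap (μ c) c') fun q => swap_fst_eq h1 q
    have hgd : g * d₀ = d₀ * g := (mem_DD.1 hd₀).2 g hg fun r => by rw [hgp]; exact swap_fst_eq h1 r
    have hgv : g * (pr M x (μ x) * v₀) = pr M x (μ x) * v₀ * g := h.comm_perp_of hg (Or.inr hgp) hpv h4
    have hyg : g * y * g⁻¹ ∈ N := by
      refine hCN g ?_ y hyN
      rw [← mul_assoc (pr M x (μ x))]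
      exact hmulc hgv hgd
    have hgy : pp M (g * y * g⁻¹) c = c' := by
      rw [h.conj hg hyP, hgp, Equiv.Perm.mul_apply, Equiv.Perm.mul_apply, Equiv.swap_inv,
        Equiv.swap_apply_of_ne_of_ne hμc.symm (Ne.symm h2), hyc, Equiv.swap_apply_left]
    have h5 := hNab _ hyg _ hr
    have h6 := (h.comm_iff (mul_mem (mul_mem hg hyP) (inv_mem hg)) (pr_mem M c (μ c))).1 h5 c
    rw [hgy, E_pr_left M (F.mfst c).symm hμc.symm, E_pr_of_ne M (F.mfst c).symm h2 h3] at h6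
    exact zero_ne_one h6
  -- the points `(i, 0)`
  have hZ : ∀ q : Pt k m, q.2 = 0 → pp M y q = q := by
    intro q hq
    obtain ⟨c, hc, hcs⟩ := exists_pt4 h.hm q.1 ({(q.1, 0)} : Finset (Pt k m)) (by simp)
    rw [Finset.mem_singleton] at hcs
    have hc0 : c.2 ≠ 0 := fun h0 => hcs (Prod.ext hc h0)
    have h1 : (pp M y c).1 = c.1 := by
      rcases hA c hc0 with e | e
      · rw [e]
      · rw [e, F.mfst]
    have h2 := h.pp_zero hyS c
    rw [h1, hc] at h2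
    have h3 : q = (q.1, 0) := Prod.ext rfl hq
    rw [h3]; exact h2
  have hym : pp M y (μ x) = μ (pp M y x) := F.meqv y hyS x
  rcases hA x hx with hyx | hyx
  · left
    ext1 q
    rw [Equiv.Perm.one_apply]
    by_cases h1 : q.2 = 0
    · exact hZ q h1
    by_cases h2 : q = x
    · rw [h2, hyx]
    by_cases h3 : q = μ x
    · rw [h3, hym, hyx]
    exact hB q h1 h2 h3
  · right
    ext1 q
    by_cases h2 : q = x
    · rw [h2, hyx, Equiv.swap_apply_left]
    by_cases h3 : q = μ x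
    · rw [h3, hym, hyx, F.msq, Equiv.swap_apply_right]
    rw [Equiv.swap_apply_of_ne_of_ne h2 h3]
    by_cases h1 : q.2 = 0
    · exact hZ q h1
    exact hB q h1 h2 h3

/-- an element acting as `1` or `(x μx)` commutes with the perp in `Ω₁Z(O₂(P))` -/
theorem comm_perp' {g : G} (hg : g ∈ P) (hgp : pp M g = 1 ∨ pp M g = Equiv.swap x (μ x)) {v d : G} (hv : v ∈ V)
    (hE : E M v x = E M v (μ x)) (hd : d ∈ DD M) : g * (v * d) = v * d * g := by
  have h1 := h.comm_perp_of hg hgp hv hE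
  have h2 : g * d = d * g := (mem_DD.1 hd).2 g hg fun r => by
    rcases hgp with e | e
    · rw [e]; rfl
    · rw [e]; exact swap_fst_eq (F.mfst x).symm r
  rw [← mul_assoc, h1, mul_assoc, h2, mul_assoc]

/-- **(6)** -/
theorem syl_six [Finite G] (zv : zc (o2 P) ≤ V ⊔ DD M) {T N : Subgroup G} (hTT : tn S M μ x ≤ T)
    (hTp : IsPGroup 2 T) (hTa : T ≤ centralizer ({pr M x (μ x)} : Set G)) (hNT : N ≤ T)
    (hTN : tn S M μ x ≤ normalizer (N : Set G)) (hNr : ∀ y ∈ N, y * pr M x (x.1, 0) = pr M x (x.1, 0) * y)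
    (h5 : ∀ y ∈ N, y ∈ tn S M μ x → pp M y = 1 ∨ pp M y = Equiv.swap x (μ x)) : N ≤ tn S M μ x := by
  classical
  by_contra hNt
  have hle : tn S M μ x ⊔ N ≤ T := sup_le hTT hNT
  have hlt : tn S M μ x < tn S M μ x ⊔ N := lt_of_le_of_ne le_sup_left fun e => hNt (le_sup_right.trans e.ge)
  obtain ⟨s, hs, hsN, hst, -⟩ := MinSimple.Choice97.exists_normalizing (hTp.to_le hle) hlt
  obtain ⟨t, ht, y, hy, rfl⟩ := mem_sup_norm hTN hs
  have hyn : y ∈ normalizer (tn S M μ x : Set G) := by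
    have e : y = t⁻¹ * (t * y) := by group
    rw [e]; exact mul_mem (inv_mem (le_normalizer ht)) hsN
  have hyt : y ∉ tn S M μ x := fun h1 => hst (mul_mem ht h1)
  have hQt := h.Q_le_tn F hx
  -- `[Q, y] ≤ N ∩ T_n`
  have key : ∀ q ∈ o2 P, q⁻¹ * (y⁻¹ * q * y) ∈ N ∧ q⁻¹ * (y⁻¹ * q * y) ∈ tn S M μ x := by
    intro q hq
    have hqt := hQt hq
    constructor
    · have h1 := (mem_normalizer_iff.1 (hTN (inv_mem hqt)) y⁻¹).1 (inv_mem hy)
      rw [inv_inv] at h1
      have e : q⁻¹ * (y⁻¹ * q * y) = q⁻¹ * y⁻¹ * q * y := by group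
      rw [e]; exact mul_mem h1 hy
    · have h1 := (mem_normalizer_iff.1 (inv_mem hyn) q).1 hqt
      rw [inv_inv] at h1
      exact mul_mem (inv_mem hqt) h1
  -- the perp
  have hperp : ∀ v ∈ V, E M v x = E M v (μ x) → ∀ d ∈ DD M, y * (v * d) * y⁻¹ ∈ zc (o2 P) := by
    intro v hv hE d hd
    have hz : v * d ∈ zc (o2 P) := mul_mem (h.VZ hv) (mem_DD.1 hd).1
    refine h.mem_zc_of F hx ?_ fun q hq => ?_
    · calc y * (v * d) * y⁻¹ * (y * (v * d) * y⁻¹) = y * (v * d * (v * d)) * y⁻¹ := by group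
        _ = 1 := by rw [Sit.zz_sq hz]; group
    · obtain ⟨h1, h2⟩ := key q hq
      have h3 := h.comm_perp' F hx (h.SP h2.1) (h5 _ h1 h2) hv hE hd
      have h4 : q * (v * d) = v * d * q := (mem_zc.1 hz).2.1 q hq
      have h5' : y⁻¹ * q * y * (v * d) = v * d * (y⁻¹ * q * y) := by
        calc y⁻¹ * q * y * (v * d) = q * (q⁻¹ * (y⁻¹ * q * y) * (v * d)) := by group
          _ = q * (v * d) * (q⁻¹ * (y⁻¹ * q * y)) := by rw [h3]; group
          _ = v * d * (y⁻¹ * q * y) := by rw [h4]; group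
      calc q * (y * (v * d) * y⁻¹) = y * (y⁻¹ * q * y * (v * d)) * y⁻¹ := by group
        _ = y * (v * d) * y⁻¹ * q := by rw [h5']; group
  have t := h.tri F hx
  have hyr := hNr y hy
  have hyZ : y ∈ normalizer (zc (o2 P) : Set G) := by
    refine BTwo.mem_normalizer_of_conj fun z hz => ?_
    obtain ⟨v, hv, d, hd, rfl⟩ := h.zz_dec zv hz
    by_cases hE : E M v x = E M v (μ x)
    · exact hperp v hv hE d hd
    · have hr := pr_mem M x (x.1, 0)
      have h1 : E M (pr M x (x.1, 0) * v) x = E M (pr M x (x.1, 0) * v) (μ x) := by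
        rw [Half.SymA.E_mul M hr hv, Half.SymA.E_mul M hr hv, E_pr_left M t.pr t.n2,
          E_pr_of_ne M t.pr t.n1.symm t.n3]
        have k1 : ∀ a b : ZMod 2, a ≠ b → 1 + a = 0 + b := by decide
        exact k1 _ _ hE
      have h2 := hperp _ (mul_mem hr hv) h1 d hd
      have e : y * (v * d) * y⁻¹ = pr M x (x.1, 0) * (y * (pr M x (x.1, 0) * v * d) * y⁻¹) := by
        calc y * (v * d) * y⁻¹ = y * (pr M x (x.1, 0) * pr M x (x.1, 0)) * (v * d) * y⁻¹ := by
              rw [h.pr_sq, mul_one]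
          _ = y * pr M x (x.1, 0) * (pr M x (x.1, 0) * (v * d)) * y⁻¹ := by group
          _ = _ := by rw [hyr]; group
      rw [e]
      exact mul_mem (h.VZ hr) h2
  have hR : tn S M μ x ⊔ zpowers y ≤ T := sup_le hTT (zpowers_le.2 (hNT hy))
  have h7 := h.lemC_le F zv hx (hTp.to_le hR) le_sup_left
    (sup_le ((fun s hs => h.P_le_NZZ (h.SP hs.1)) : tn S M μ x ≤ _) (zpowers_le.2 hyZ)) (hR.trans hTa)
  exact hyt (h7 (mem_sup_right (mem_zpowers y)))

end Fw

end Cfsg.Agent.Omega.IId.SymWrD.Hw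

end

section


/-!
# THEOREM SYL^ (bb OMEGA #21666, helper916), step (7)

`c ∈ Ω₁Z(T) ∩ C(X)`, `c ≠ 1`, `g` commutes with `c`, `n^g = n c`, `10^g = 10 c`; `N ∋ n` normal in `C_G(n c)`,
centralised by the `v d`, `v ∈ V` commuting with `(x μx)`, `d ∈ DD M`. Then `ZZ ≤ O₂(C_G(nc))`, an element of
`K_{nc}` acts on `ZZ` with centre `nc`, so `nc` is an `S`-duad (LEMMA C): contradiction.
-/

set_option autoImplicit false
set_option linter.unusedSectionVars false

namespace Cfsg.Agent.Omega.IId.SymWrD.Hw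

open Subgroup Cfsg Cfsg.Agent.Omega.MinPar Cfsg.Agent.Omega.FFThm
open Cfsg.Agent.ZN (o2 zc)
open Cfsg.Agent.Omega.Half.SymA (Pt E Mv pm)
open Cfsg.Agent.Omega.HT.LineOf (Ln ln pts dd)
open Cfsg.Agent.Omega.IId.Triangle (KK mem_KK KK_conj KK_le_o2 o2_cent_conj mem_zpowers_iff_of_sq)
open Cfsg.Agent.MinSimple.VModule (le_normalizer_o2 o2_isPGroup o2_le mem_zc zc_le le_o2)
open Cfsg.Agent.MinSimple.Geo (mem_o2_of_stab)
open Ht (DD mem_DD Fr Tri tn)

universe u

variable {G : Type u} [Group G] [Finite G] {k m : ℕ}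

namespace Fw

variable {S : Sylow 2 G} {P V D : Subgroup G} {M : SymK (S : Subgroup G) P V ⊥ k m} (h : Fw S P V D M)
include h

/-- `v d ∈ O₂(C_G(n))` for `v ∈ V` commuting with `(p q)`, `d ∈ DD M` -/
theorem perp_DD {p q : Pt k m} (hpq : p.1 = q.1) (hne : p ≠ q) {v d : G} (hv : v ∈ V) (hE : E M v p = E M v q)
    (hd : d ∈ DD M) : v * d ∈ o2 (centralizer ({pr M p q} : Set G)) := by
  have hd1 := mem_DD.1 hd
  refine mul_mem (zc_le _ (h.perp hpq hne hv hE)) (MinSimple.Basic.char2_centralizer h.char2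
    (by rw [pow_two]; exact h.pr_sq) (h.pr_ne hpq hne) (mem_inf.2 ⟨?_, mem_centralizer_iff.2 fun y hy => ?_⟩))
  · rw [mem_centralizer_singleton_iff]
    exact Sit.zz_comm hd1.1 (h.VZ (pr_mem M p q))
  · refine hd1.2 y (h.Qle hpq hne hy) fun r => ?_
    rcases h.Qpp hpq hne hy with e | e
    · rw [e]; rfl
    · rw [e]; exact swap_fst_eq hpq r

variable {μ ν : Equiv.Perm (Pt k m)} (F : Fours M μ ν) {x : Pt k m} (hx : x.2 ≠ 0)
  (zv : zc (o2 P) ≤ V ⊔ DD M)
include F hx zv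

/-- **step (7)** -/
theorem syl_seven {c g : G} (hcT : c ∈ zc (tn S M μ x)) (hc1 : c ≠ 1)
    (hcX : ∀ y ∈ h.XK (h.tri F hx), y * c = c * y) (hcQ : c ∈ zc (o2 (centralizer ({pr M x (μ x)} : Set G))))
    (hgc : g * c = c * g) (hga : g * pr M x (μ x) * g⁻¹ = pr M x (μ x) * c)
    (hgb : g * pr M x (x.1, 0) * g⁻¹ = pr M x (x.1, 0) * c) {N : Subgroup G} (hn : pr M x (μ x) ∈ N)
    (hNC : N ≤ centralizer ({pr M x (μ x) * c} : Set G))
    (hCN : centralizer ({pr M x (μ x) * c} : Set G) ≤ normalizer (N : Set G))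
    (hNZ : ∀ v ∈ V, E M v x = E M v (μ x) → ∀ d ∈ DD M, ∀ y ∈ N, y * (v * d) = v * d * y) : False := by
  have t := h.tri F hx
  obtain ⟨n, hnd⟩ : ∃ n, n = pr M x (μ x) := ⟨_, rfl⟩
  obtain ⟨b, hb⟩ : ∃ b, b = pr M x (x.1, 0) := ⟨_, rfl⟩
  obtain ⟨p, hp⟩ : ∃ p, p = n * c := ⟨_, rfl⟩
  have hnV : n ∈ V := by rw [hnd]; exact pr_mem M _ _
  have hbV : b ∈ V := by rw [hb]; exact pr_mem M _ _
  have hcz : c ∈ zc (o2 P) := h.zc_tn_le F hx hcT
  have hcc : c * c = 1 := by rw [← pow_two]; exact (mem_zc.1 hcz).2.2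
  have hnn : n * n = 1 := h.Vsq hnV
  have hbb : b * b = 1 := h.Vsq hbV
  have hnc : n * c = c * n := Sit.zz_comm (h.VZ hnV) hcz
  have hbc : b * c = c * b := Sit.zz_comm (h.VZ hbV) hcz
  have hnb : n * b = b * n := h.Vcomm hnV hbV
  rw [← hnd] at hcQ hga hn hNC hCN
  rw [← hp] at hga hNC hCN
  rw [← hb] at hgb
  have hpz : p ∈ zc (o2 P) := by rw [hp]; exact mul_mem (h.VZ hnV) hcz
  have hpp : p * p = 1 := by rw [← pow_two]; exact (mem_zc.1 hpz).2.2
  have hp1 : p ≠ 1 := by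
    intro e
    rw [← hga] at e
    have h1 := conj_eq_one_iff.1 e
    rw [hnd] at h1
    exact h.pr_ne t.pq t.n1 h1
  obtain ⟨Qp, hQp⟩ : ∃ Qp, Qp = o2 (centralizer ({p} : Set G)) := ⟨_, rfl⟩
  -- **A**
  have hA : ∀ v ∈ V, E M v x = E M v (μ x) → ∀ d ∈ DD M, v * d ∈ Qp := by
    intro v hv hE d hd
    have hz := h.perp_DD t.pq t.n1 hv hE hd
    rw [← hnd] at hz
    obtain ⟨C', hC'⟩ : ∃ C', C' = centralizer (N : Set G) ⊓ centralizer ({p} : Set G) := ⟨_, rfl⟩
    have hvd : v * d ∈ zc (o2 P) := mul_mem (h.VZ hv) (mem_DD.1 hd).1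
    have h1 : v * d ∈ C' := by
      rw [hC']
      exact mem_inf.2 ⟨mem_centralizer_iff.2 fun y hy => hNZ v hv hE d hd y hy,
        mem_centralizer_singleton_iff.2 (Sit.zz_comm hvd hpz)⟩
    have hC'n : C' ≤ centralizer ({n} : Set G) := by
      rw [hC']
      exact fun y hy => mem_centralizer_singleton_iff.2 (mem_centralizer_iff.1 hy.1 n hn).symm
    have h2 : (o2 (centralizer ({n} : Set G)) ⊓ C' : Subgroup G) ≤ o2 C' := by
      refine le_o2 inf_le_right ((o2_isPGroup _).to_le inf_le_left) fun y hy => ?_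
      exact BTwo.mem_normalizer_of_conj fun z hz => mem_inf.2
        ⟨BTwo.conj_mem_of_normalizer (le_normalizer_o2 _ (hC'n hy)) hz.1, mul_mem (mul_mem hy hz.2) (inv_mem hy)⟩
    have h3 : o2 C' ≤ o2 (centralizer ({p} : Set G)) := by
      refine TwoK.o2_le_o2 (by rw [hC']; exact inf_le_right) fun y hy => ?_
      rw [hC']
      exact BTwo.mem_normalizer_of_conj fun z hz => mem_inf.2
        ⟨BTwo.conj_mem_of_normalizer (BTwo.normalizer_le_normalizer_centralizer _ (hCN hy)) hz.1,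
          mul_mem (mul_mem hy hz.2) (inv_mem hy)⟩
    rw [hQp]
    exact h3 (h2 (mem_inf.2 ⟨hz, h1⟩))
  -- **B**
  have hgc' : g * c * g⁻¹ = c := by rw [hgc, mul_inv_cancel_right]
  have hbQ : b ∈ Qp := by
    have h1 : b * c ∈ o2 (centralizer ({n} : Set G)) := by
      refine mul_mem ?_ (zc_le _ hcQ)
      rw [hnd]; exact h.V_le t.pq t.n1 hbV
    have h2 : g * (b * c) * g⁻¹ = b := by
      calc g * (b * c) * g⁻¹ = (g * b * g⁻¹) * (g * c * g⁻¹) := by group
        _ = b := by rw [hgb, hgc', mul_assoc, hcc, mul_one]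
    rw [hQp, ← hga, o2_cent_conj]
    exact ⟨b * c, h1, h2⟩
  -- **C**
  have hone : (1 : G) ∈ DD M := one_mem _
  have hC : zc (o2 P) ≤ Qp := by
    intro z hz
    obtain ⟨v, hv, d, hd, rfl⟩ := h.zz_dec zv hz
    by_cases hE : E M v x = E M v (μ x)
    · exact hA v hv hE d hd
    · have h1 := hA (b * v) (mul_mem hbV hv) (by
        rw [Half.SymA.E_mul M hbV hv, Half.SymA.E_mul M hbV hv, hb, E_pr_left M t.pr t.n2,
          E_pr_of_ne M t.pr t.n1.symm t.n3]
        have key : ∀ u w : ZMod 2, u ≠ w → 1 + u = 0 + w := by decide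
        exact key _ _ hE) d hd
      have e : v * d = b * (b * v * d) := by
        calc v * d = (b * b) * v * d := by rw [hbb, one_mul]
          _ = b * (b * v * d) := by group
      rw [e]
      exact mul_mem hbQ h1
  -- **D**
  have hD : ∀ y ∈ KK p, ∀ z ∈ zc (o2 P), y * z * y⁻¹ = z ∨ y * z * y⁻¹ = z * p := by
    intro y hy z hz
    have h1 := (mem_KK.1 hy).2 z (by rw [← hQp]; exact hC hz)
    rcases (mem_zpowers_iff_of_sq hpp).1 h1 with e | e
    · left; exact mul_inv_eq_one.1 e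
    · right
      rw [mul_inv_eq_iff_eq_mul] at e
      rw [e]; exact Sit.zz_comm hpz hz
  have hKN : KK p ≤ normalizer (zc (o2 P) : Set G) := by
    intro y hy
    refine BTwo.mem_normalizer_of_conj fun z hz => ?_
    rcases hD y hy z hz with e | e
    · rw [e]; exact hz
    · rw [e]; exact mul_mem hz hpz
  -- **E**
  have hKQ : KK p ≤ Qp := by
    rw [hQp]
    exact KK_le_o2 hpp (MinSimple.Basic.char2_centralizer h.char2 (by rw [pow_two]; exact hpp) hp1)
  have hKp : IsPGroup 2 (KK p) := (by rw [hQp]; exact o2_isPGroup _ : IsPGroup 2 Qp).to_le hKQ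
  have htp : ∀ s ∈ tn S M μ x, s * p = p * s := by
    intro s hs
    have h1 : s * n = n * s := by rw [hnd]; exact mem_centralizer_singleton_iff.1 hs.2
    have h2 : s * c = c * s := (mem_zc.1 hcT).2.1 s hs
    rw [hp, ← mul_assoc, h1, mul_assoc, h2, mul_assoc]
  have htK : tn S M μ x ≤ normalizer (KK p : Set G) := by
    intro s hs
    refine BTwo.mem_normalizer_of_conj fun y hy => ?_
    have h1 := KK_conj (h := s) hy
    rwa [htp s hs, mul_inv_cancel_right] at h1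
  have hRp : IsPGroup 2 (tn S M μ x ⊔ KK p : Subgroup G) :=
    IsPGroup.to_sup_of_normal_right' (S.isPGroup'.to_le inf_le_left) hKp htK
  have hRN : tn S M μ x ⊔ KK p ≤ normalizer (zc (o2 P) : Set G) :=
    sup_le (fun s hs => h.P_le_NZZ (h.SP hs.1)) hKN
  -- **F**
  obtain ⟨w, hw, hwp⟩ := h.par t.pq t.n1
  have hwP := h.Qle t.pq t.n1 (h.KK_le t.pq t.n1 hw)
  have hκ : g * w * g⁻¹ ∈ KK p := by
    rw [← hga, hnd]; exact KK_conj hw
  have hwb : w * b * w⁻¹ = b * n := by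
    rw [hb, hnd]
    refine h.conj_swap hwP t.pq hwp (pr_mem M _ _) ?_
    rw [E_pr_left M t.pr t.n2, E_pr_of_ne M t.pr t.n1.symm t.n3]
    exact one_ne_zero
  have hwc : w * c * w⁻¹ = c := by
    have h1 : w ∈ h.XK (h.tri F hx) := mem_iSup_of_mem (0 : Fin 3) hw
    rw [hcX w h1, mul_inv_cancel_right]
  have hgb' : g⁻¹ * b * g = b * c := by
    have h2 : g * (b * c) * g⁻¹ = b := by
      calc g * (b * c) * g⁻¹ = (g * b * g⁻¹) * (g * c * g⁻¹) := by group
        _ = b := by rw [hgb, hgc', mul_assoc, hcc, mul_one]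
    calc g⁻¹ * b * g = g⁻¹ * (g * (b * c) * g⁻¹) * g := by rw [h2]
      _ = b * c := by group
  have hκb : g * w * g⁻¹ * b * (g * w * g⁻¹)⁻¹ = b * p := by
    calc g * w * g⁻¹ * b * (g * w * g⁻¹)⁻¹ = g * (w * (g⁻¹ * b * g) * w⁻¹) * g⁻¹ := by group
      _ = g * ((w * b * w⁻¹) * (w * c * w⁻¹)) * g⁻¹ := by rw [hgb']; group
      _ = (g * b * g⁻¹) * (g * n * g⁻¹) * (g * c * g⁻¹) := by rw [hwb, hwc]; group
      _ = b * c * p * c := by rw [hgb, hga, hgc']
      _ = b * (c * n) * (c * c) := by rw [hp]; group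
      _ = b * p := by rw [hcc, mul_one, ← hnc, hp]
  -- **G**
  obtain ⟨q, hq, hpq⟩ := h.lemC_cen F zv hx hRp le_sup_left hRN (mem_sup_right hκ) (hD _ hκ)
    ⟨b, h.VZ hbV, fun e => by
      have h1 : g * w * g⁻¹ * b * (g * w * g⁻¹)⁻¹ = b := mul_inv_eq_iff_eq_mul.2 e
      rw [hκb] at h1
      exact hp1 (mul_left_cancel (h1.trans (mul_one b).symm))⟩
  -- **H**
  obtain ⟨v, hv, d, hd, hvT, -, hcvd⟩ := h.zc_tn_dec F hx zv hcT
  have hd1 : d = 1 := by
    refine h.eq_one_of_DD ?_ hd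
    have e : d = (n * v)⁻¹ * pr M q (μ q) := by
      rw [← hpq, hp, hcvd]; group
    rw [e]
    exact mul_mem (inv_mem (mul_mem hnV hv)) (pr_mem M _ _)
  rw [hd1, mul_one] at hcvd
  obtain ⟨w', hw', hwp'⟩ := h.par t.pr t.n2
  have hwP' := h.Qle t.pr t.n2 (h.KK_le t.pr t.n2 hw')
  have h1 : w' ∈ h.XK (h.tri F hx) := mem_iSup_of_mem (1 : Fin 3) hw'
  have h2 := hcX w' h1
  rw [hcvd] at h2
  have h3 := (h.comm_iff hwP' hv).1 h2 x
  rw [hwp', Equiv.swap_apply_left, h.fix_zero F hx hv hvT] at h3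
  have hE : E M (pr M q (μ q)) x = 1 := by
    rw [← hpq, hp, hcvd, Half.SymA.E_mul M hnV hv, ← h3, hnd, E_pr_left M t.pq t.n1, add_zero]
  have hqμ : q.1 = (μ q).1 := (F.mfst q).symm
  have h4 : x = q ∨ x = μ q := by
    by_contra hcon
    push Not at hcon
    rw [E_pr_of_ne M hqμ hcon.1 hcon.2] at hE
    exact zero_ne_one hE
  have h5 : pr M q (μ q) = n := by
    rcases h4 with e | e
    · rw [← e, hnd]
    · have e2 : q = μ x := by rw [e, F.msq]
      rw [hnd, e2, F.msq, pr_comm M t.pq]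
  rw [h5, hp] at hpq
  exact hc1 (mul_left_cancel (hpq.trans (mul_one n).symm))

end Fw

end Cfsg.Agent.Omega.IId.SymWrD.Hw

end
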